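import Groth.Agent.Lib.TensorMod.Dual
import Groth.Agent.Lib.AlgEquiv22.Ample
import Groth.Prelude.Def_Pic13
import Mathlib.AlgebraicGeometry.Geometrically.Connected

/-!
# Classes algebraically equivalent to zero form a submonoid
-/

set_option autoImplicit false
set_option linter.style.haveILetI false
set_option backward.isDefEq.respectTransparency false
set_option backward.isDefEq.respectTransparency.types false

universe u

open CategoryTheory CategoryTheory.Limits AlgebraicGeometry TopologicalSpace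

noncomputable section

namespace Groth.Agent.Abel10

noncomputable local instance instLawAbel (Y : Scheme.{u}) : PicGrp.Law Y := M2.law Y

/-- Pullback of classes. -/
abbrev pc {Y' Y : Scheme.{u}} (g : Y' ⟶ Y) : PicLoc.PicSet Y →* PicLoc.PicSet Y' :=
  PicGrp.pullHom g (M2.pullMul g)

theorem pc_comp {Y'' Y' Y : Scheme.{u}} (g : Y'' ⟶ Y') (g' : Y' ⟶ Y) {h : Y'' ⟶ Y} (w : g ≫ g' = h)
    (c : PicLoc.PicSet Y) : pc g (pc g' c) = pc h c := by
  subst w
  exact (PicGrp.pullHom_comp_apply g g' _ _ (M2.pullMul _) c).symm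

theorem pc_id {Y : Scheme.{u}} (c : PicLoc.PicSet Y) : pc (𝟙 Y) c = c := PicGrp.pullHom_id_apply _ c

variable (k : Type u) [Field k] (X : Scheme.{u}) [X.Over (Spec (CommRingCat.of k))]

/-- A class algebraically equivalent to zero. -/
def IsAZ (c : PicLoc.PicSet X) : Prop :=
  ∃ (T : Scheme.{u}) (q : T ⟶ Spec (CommRingCat.of k)), ConnectedSpace T ∧ LocallyOfFiniteType q ∧ QuasiCompact q ∧
    ∃ (m : PicLoc.PicSet (Pic13.prodK k X q)) (t t₀ : Spec (CommRingCat.of k) ⟶ T) (ht : t ≫ q = 𝟙 _)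
      (ht₀ : t₀ ≫ q = 𝟙 _), pc (Pic13.sliceAt k X q t ht) m = c ∧ pc (Pic13.sliceAt k X q t₀ ht₀) m = 1

variable {k X}

theorem IsAZ.isAlgEquivZero {L : X.Modules} {hL : PicF.IsInvertible L} (h : IsAZ k X (PicGrp.cls L hL)) :
    Pic13.IsAlgEquivZero k X L := by
  obtain ⟨T, q, hT, h1, h2, m, t, t₀, ht, ht₀, e, e₀⟩ := h
  obtain ⟨M, hM, rfl⟩ := PicGrp.exists_eq_cls m
  rw [pc, PicGrp.pullHom_cls, PicGrp.cls_eq_cls_iff] at e
  rw [pc, PicGrp.pullHom_cls, PicGrp.cls_eq_one_iff] at e₀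
  exact ⟨T, q, hT, h1, h2, M, hM, t, t₀, ht, ht₀, e, e₀⟩

theorem isAZ_one : IsAZ k X 1 := by
  haveI : ConnectedSpace (Spec (CommRingCat.of k)) := inferInstanceAs (ConnectedSpace (PrimeSpectrum k))
  exact ⟨Spec (CommRingCat.of k), 𝟙 _, inferInstance, inferInstance, inferInstance, 1, 𝟙 _, 𝟙 _, by simp, by simp,
    map_one _, map_one _⟩

theorem IsAZ.mul [IsAlgClosed k] {a b : PicLoc.PicSet X} (ha : IsAZ k X a) (hb : IsAZ k X b) : IsAZ k X (a * b) := by
  obtain ⟨T, q, hT, h1, h2, m, t, t₀, ht, ht₀, e, e₀⟩ := ha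
  obtain ⟨T', q', hT', h1', h2', m', t', t₀', ht', ht₀', e', e₀'⟩ := hb
  haveI := hT; haveI := hT'; haveI := h1; haveI := h1'; haveI := h2; haveI := h2'
  haveI : GeometricallyConnected q := GeomIrr.geometricallyConnected_of_isSepClosed q
  haveI : ConnectedSpace ↥(pullback q q') := inferInstance
  let p := X ↘ Spec (CommRingCat.of k)
  let Q : pullback q q' ⟶ Spec (CommRingCat.of k) := pullback.fst q q' ≫ q
  haveI : LocallyOfFiniteType Q := inferInstanceAs (LocallyOfFiniteType (_ ≫ _))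
  haveI : QuasiCompact Q := inferInstanceAs (QuasiCompact (_ ≫ _))
  let π : Pic13.prodK k X Q ⟶ Pic13.prodK k X q :=
    pullback.lift (pullback.fst p Q) (pullback.snd p Q ≫ pullback.fst q q') (by rw [Category.assoc]; exact pullback.condition)
  let π' : Pic13.prodK k X Q ⟶ Pic13.prodK k X q' :=
    pullback.lift (pullback.fst p Q) (pullback.snd p Q ≫ pullback.snd q q')
      (by rw [Category.assoc, ← pullback.condition (f := q) (g := q')]; exact pullback.condition)
  have key : ∀ (u : Spec (CommRingCat.of k) ⟶ T) (v : Spec (CommRingCat.of k) ⟶ T') (hu : u ≫ q = 𝟙 _)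
      (hv : v ≫ q' = 𝟙 _), ∃ hw : pullback.lift u v (hu.trans hv.symm) ≫ Q = 𝟙 _,
      pc (Pic13.sliceAt k X Q (pullback.lift u v (hu.trans hv.symm)) hw) (pc π m * pc π' m') =
        pc (Pic13.sliceAt k X q u hu) m * pc (Pic13.sliceAt k X q' v hv) m' := by
    intro u v hu hv
    refine ⟨by simp only [Q]; rw [← Category.assoc, pullback.lift_fst, hu], ?_⟩
    rw [map_mul]
    congr 1
    · refine pc_comp _ _ ?_ m
      refine pullback.hom_ext ?_ ?_ <;> simp [Pic13.sliceAt, π, p]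
    · refine pc_comp _ _ ?_ m'
      refine pullback.hom_ext ?_ ?_ <;> simp [Pic13.sliceAt, π', p]
  obtain ⟨hw, hk⟩ := key t t' ht ht'
  obtain ⟨hw₀, hk₀⟩ := key t₀ t₀' ht₀ ht₀'
  exact ⟨pullback q q', Q, inferInstance, inferInstance, inferInstance, pc π m * pc π' m', _, _, hw, hw₀,
    by rw [hk, e, e'], by rw [hk₀, e₀, e₀', one_mul]⟩

end Groth.Agent.Abel10
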