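import Groth.Agent.Lib.Abel10.LocEq
import Groth.Agent.Lib.VB17.Proper
import Groth.Agent.Lib.CurveCoh17.Equality
import Groth.Agent.Lib.CurveAmple18.Cartier
import Groth.Agent.Lib.TensorMod.InvCrit
import Groth.Agent.Lib.CurveCartier25.RelDim
import Groth.Agent.S15990
import Groth.Agent.S1536

/-!
# The sections of `O(P)` on a curve of positive genus
-/

set_option autoImplicit false
set_option linter.style.haveILetI false
set_option backward.isDefEq.respectTransparency false
set_option backward.isDefEq.respectTransparency.types false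

universe u

open CategoryTheory CategoryTheory.Limits AlgebraicGeometry TopologicalSpace Opposite

noncomputable section

namespace Groth.Agent.Abel10

open Groth.Agent.ModLimH13 Groth.Agent.CurveCoh17

variable {K : Type u} [Field K] {Z : Scheme.{u}}

theorem topologicalKrullDim_le_of_retract (q : Spec (CommRingCat.of K) ⟶ Z) (l : Z ⟶ Spec (CommRingCat.of K))
    (h : l ≫ q = 𝟙 Z) : topologicalKrullDim Z ≤ 0 := by
  haveI : Subsingleton (Spec (CommRingCat.of K)) := inferInstanceAs (Subsingleton (PrimeSpectrum K))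
  haveI : Subsingleton Z := ⟨fun a b => by
    rw [show a = q (l a) by rw [← Scheme.Hom.comp_apply, h]; rfl, show b = q (l b) by rw [← Scheme.Hom.comp_apply, h]; rfl,
      Subsingleton.elim (l a) (l b)]⟩
  exact topologicalKrullDim_zero_of_discreteTopology Z

/-- The functions on a rational point are one-dimensional. -/
theorem finrank_quotMod_section [Z.Over (Spec (CommRingCat.of K))] (q : Spec (CommRingCat.of K) ⟶ Z)
    [IsClosedImmersion q] (hq : q ≫ (Z ↘ Spec (CommRingCat.of K)) = 𝟙 _) :
    Module.finrank K (Coh.HH Z (ClSub.quotMod q.ker) 0) = 1 := by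
  let ι := q.ker.subschemeι
  let φ : Γ(q.ker.subscheme, ⊤) ⟶ CommRingCat.of K := q.toImage.appTop ≫ (Scheme.ΓSpecIso (CommRingCat.of K)).hom
  haveI : IsIso q.toImage.appTop := inferInstance
  have hφ : Function.Bijective φ := ConcreteCategory.bijective_of_isIso φ
  let H := hh0 (ClSub.quotMod q.ker)
  let e : Coh.HH Z (ClSub.quotMod q.ker) 0 ≃+ K :=
    H.trans (AddEquiv.ofBijective (AddMonoidHom.mk' (fun a => φ (show Γ(q.ker.subscheme, ⊤) from a))
      fun a b => map_add φ.hom a b) hφ)
  have hφι : ∀ r : Γ(Z, ⊤), φ (ι.appTop r) = (Scheme.ΓSpecIso (CommRingCat.of K)).hom (q.appTop r) := fun r => by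
    have h1 := ConcreteCategory.congr_hom (congrArg (fun h : Spec (CommRingCat.of K) ⟶ Z => h.appTop) q.toImage_imageι) r
    exact congrArg (Scheme.ΓSpecIso (CommRingCat.of K)).hom h1
  have he : ∀ (c : K) (x : Coh.HH Z (ClSub.quotMod q.ker) 0), e (c • x) = c * e x := fun c x => by
    let r : Γ(Z, ⊤) := (Z ↘ Spec (CommRingCat.of K)).appTop ((Scheme.ΓSpecIso (CommRingCat.of K)).inv c)
    have hr : φ (ι.appTop r) = c := by
      have h1 : q.appTop r = (Scheme.ΓSpecIso (CommRingCat.of K)).inv c := by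
        have h2 := ConcreteCategory.congr_hom
          (congrArg (fun h : Spec (CommRingCat.of K) ⟶ Spec (CommRingCat.of K) => h.appTop) hq)
          ((Scheme.ΓSpecIso (CommRingCat.of K)).inv c)
        exact h2
      rw [hφι, h1]
      exact ConcreteCategory.congr_hom (Scheme.ΓSpecIso (CommRingCat.of K)).inv_hom_id c
    show φ (show Γ(q.ker.subscheme, ⊤) from H (c • x)) = c * φ (show Γ(q.ker.subscheme, ⊤) from H x)
    rw [show H (c • x) = r • H x from hh0_smul _ _]
    show φ (ι.appTop r * (show Γ(q.ker.subscheme, ⊤) from H x)) = _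
    rw [map_mul, hr]
  exact ((LinearEquiv.mk { toFun := e, map_add' := map_add e, map_smul' := he } e.symm e.left_inv e.right_inv) :
    Coh.HH Z (ClSub.quotMod q.ker) 0 ≃ₗ[K] K).finrank_eq.trans (Module.finrank_self K)

/-- On a smooth proper curve of positive genus the sections of `O(P)`, `P` rational, are the multiples of the
canonical one. -/
theorem bijective_smul_section (p : Z ⟶ Spec (CommRingCat.of K)) [IsProper p] [Smooth p] [GeometricallyConnected p]
    (hdim : topologicalKrullDim Z = 1)
    (hg : letI : Z.Over (Spec (CommRingCat.of K)) := ⟨p⟩; 1 ≤ Curv2.genus K Z)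
    (q : Spec (CommRingCat.of K) ⟶ Z) (hq : q ≫ p = 𝟙 _) [IsClosedImmersion q] {L : Z.Modules}
    (hL : PicF.IsInvertible L) {σ : Γ(L, (⊤ : Z.Opens))} (hs : LocEq L q.ker σ) :
    Function.Bijective fun c : Γ(Spec (CommRingCat.of K), ⊤) => p.appTop c • σ := by
  letI : Z.Over (Spec (CommRingCat.of K)) := ⟨p⟩
  haveI : IsProper (Z ↘ Spec (CommRingCat.of K)) := ‹IsProper p›
  haveI : Smooth (Z ↘ Spec (CommRingCat.of K)) := ‹Smooth p›
  haveI : GeometricallyConnected (Z ↘ Spec (CommRingCat.of K)) := ‹GeometricallyConnected p›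
  haveI := VB17.isIntegral_of_smooth (k := K) (X := Z)
  haveI := GeomRed.geometricallyReduced_of_smooth (k := K) (X := Z)
  have hX := VB17.curveLike (k := K) hdim
  haveI := hX.noetherian
  have h0 := S1536.result K Z
  haveI := CurveCartier25.smoothOfRelativeDimension_one p hdim
  have hJ : BlowUp.IsEffCartierIdeal q.ker := (S15990.result p q hq).1
  have hσ : σ ≠ 0 := fun h => by
    obtain ⟨l, hl⟩ := exists_factor q hs (𝟙 Z) (by
      rw [h]
      exact map_zero (AddMonoidHom.mk' (res' (𝟙 Z) L (W := ⊤) (W' := ⊤) le_top) (res'_add _ _ _)))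
    have := hdim.symm.trans_le (topologicalKrullDim_le_of_retract q l hl)
    exact absurd this (by norm_num)
  obtain ⟨eI⟩ := nonempty_iso_of_locEq hJ hL hs
  have hI := M2.isInvertible_idealMod q.ker hJ
  have hdI : Curv2.deg K Z (ClSub.idealMod q.ker) 1 = -1 := by
    rw [CurveAmple18.deg_idealMod hdim.le hJ, finrank_quotMod_section q hq]
    rfl
  have hdL : Curv2.deg K Z L 1 = 1 := by
    rw [hX.deg_of_tensor_iso hI hL (M2.tensorComm _ _ ≪≫ eI), hdI]
    norm_num
  let z := (hh0 L).symm σ
  have hz : z ≠ 0 := fun h => hσ (by rw [← (hh0 L).apply_symm_apply σ]; exact (congrArg _ h).trans (map_zero _))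
  haveI : Nontrivial (Coh.HH Z L 0) := ⟨⟨z, 0, hz⟩⟩
  have hle := hX.h0_le_deg_add (rkOne_of_invertible hdim.le hL) inferInstance
  rw [h0, hdL] at hle
  haveI := hX.fin L (rkOne_of_invertible hdim.le hL).coh 0
  have h1 : Module.finrank K (Coh.HH Z L 0) = 1 := by
    have hpos : 0 < Module.finrank K (Coh.HH Z L 0) := Module.finrank_pos
    by_contra hne
    have := hX.genus_eq_zero_of_h0_eq_deg_add_one h0 hL (by rw [hdL]; omega) (by rw [hdL]; norm_num)
    omega
  have hb := (finrank_eq_one_iff_of_nonzero' z hz).1 h1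
  have key : ∀ c : K, hh0 L (c • z) = p.appTop ((Scheme.ΓSpecIso (CommRingCat.of K)).inv c) • σ := fun c => by
    refine (hh0_smul _ _).trans ?_
    rw [AddEquiv.apply_symm_apply]
    rfl
  refine ⟨fun a b hab => ?_, fun m => ?_⟩
  · obtain ⟨a', rfl⟩ := (ConcreteCategory.bijective_of_isIso (Scheme.ΓSpecIso (CommRingCat.of K)).inv).2 a
    obtain ⟨b', rfl⟩ := (ConcreteCategory.bijective_of_isIso (Scheme.ΓSpecIso (CommRingCat.of K)).inv).2 b
    by_contra hne
    have hne' : a' - b' ≠ 0 := sub_ne_zero.2 fun h => hne (h ▸ rfl)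
    refine hz ((smul_eq_zero_iff_right hne').1 ?_)
    rw [sub_smul, sub_eq_zero]
    exact (hh0 L).injective ((key a').trans (hab.trans (key b').symm))
  · obtain ⟨c, hc⟩ := hb ((hh0 L).symm m)
    exact ⟨_, (key c).symm.trans ((congrArg (hh0 L) hc).trans ((hh0 L).apply_symm_apply m))⟩

end Groth.Agent.Abel10
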