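import Groth.Agent.Lib.Abel10.AlgEquiv
import Groth.Agent.Lib.Abel10.Fibre
import Groth.Agent.Lib.CurveAmple18.Basic
import Groth.Agent.Lib.CurveCoh17.VeryAmple
import Groth.Agent.Lib.NumPoly18.FamilyEuler
import Groth.Agent.Lib.SchImage.ReducedKer
import Mathlib.AlgebraicGeometry.AlgClosed.Basic

/-!
# Divisors of degree zero on a curve are algebraically equivalent to zero
-/

set_option autoImplicit false
set_option linter.style.haveILetI false
set_option linter.unusedSectionVars false
set_option backward.isDefEq.respectTransparency false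
set_option backward.isDefEq.respectTransparency.types false

universe u

open CategoryTheory CategoryTheory.Limits AlgebraicGeometry TopologicalSpace Opposite

noncomputable section

namespace Groth.Agent.Abel10

open Groth.Agent.CurveCoh17
open Groth.Agent.M1 (secHom)

noncomputable local instance instLawCurvePts (Y : Scheme.{u}) : PicGrp.Law Y := M2.law Y

variable {k : Type u} [Field k] {C : Scheme.{u}} [C.Over (Spec (CommRingCat.of k))]
  [IsProper (C ↘ Spec (CommRingCat.of k))] [Smooth (C ↘ Spec (CommRingCat.of k))] [IsIntegral C]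
  (hdim : topologicalKrullDim C = 1)

include hdim

theorem isEffCartierIdeal_point (x : Spec (CommRingCat.of k) ⟶ C) (hx : x ≫ (C ↘ Spec (CommRingCat.of k)) = 𝟙 _) :
    BlowUp.IsEffCartierIdeal x.ker :=
  haveI := CurveCartier25.smoothOfRelativeDimension_one (C ↘ Spec (CommRingCat.of k)) hdim
  (S15990.result (C ↘ Spec (CommRingCat.of k)) x hx).1

theorem isInvertible_point (x : Spec (CommRingCat.of k) ⟶ C) (hx : x ≫ (C ↘ Spec (CommRingCat.of k)) = 𝟙 _) :
    PicF.IsInvertible (ClSub.idealMod x.ker) :=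
  M2.isInvertible_idealMod _ (isEffCartierIdeal_point hdim x hx)

/-- The class of the ideal of a rational point. -/
def ptCls (x : Spec (CommRingCat.of k) ⟶ C) (hx : x ≫ (C ↘ Spec (CommRingCat.of k)) = 𝟙 _) : PicLoc.PicSet C :=
  PicGrp.cls (ClSub.idealMod x.ker) (isInvertible_point hdim x hx)

theorem deg_point (x : Spec (CommRingCat.of k) ⟶ C) (hx : x ≫ (C ↘ Spec (CommRingCat.of k)) = 𝟙 _) :
    Curv2.deg k C (ClSub.idealMod x.ker) 1 = -1 := by
  haveI : IsClosedImmersion x := by
    haveI : IsClosedImmersion (x ≫ (C ↘ Spec (CommRingCat.of k))) := by rw [hx]; infer_instance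
    exact IsClosedImmersion.of_comp x (C ↘ Spec (CommRingCat.of k))
  rw [CurveAmple18.deg_idealMod hdim.le (isEffCartierIdeal_point hdim x hx), finrank_quotMod_section x hx]
  rfl

/-- `O(x - y)` is algebraically equivalent to zero. -/
theorem isAZ_sub [ConnectedSpace C] (x y : Spec (CommRingCat.of k) ⟶ C)
    (hx : x ≫ (C ↘ Spec (CommRingCat.of k)) = 𝟙 _) (hy : y ≫ (C ↘ Spec (CommRingCat.of k)) = 𝟙 _) :
    IsAZ k C (ptCls hdim y hy * (ptCls hdim x hx)⁻¹) := by
  let p := C ↘ Spec (CommRingCat.of k)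
  haveI := CurveCartier25.smoothOfRelativeDimension_one p hdim
  haveI := smoothOfRelativeDimension_isStableUnderBaseChange 1
  haveI : SmoothOfRelativeDimension 1 (pullback.snd p p) :=
    MorphismProperty.of_isPullback (P := @SmoothOfRelativeDimension 1) (IsPullback.of_hasPullback p p) inferInstance
  have hJ : BlowUp.IsEffCartierIdeal (pullback.diagonal p).ker :=
    (S15990.result (pullback.snd p p) (pullback.diagonal p) (pullback.diagonal_snd p)).1
  obtain ⟨D, hD, ⟨eD⟩⟩ := M2.exists_inverse (M2.isInvertible_idealMod _ hJ)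
  obtain ⟨σ, hσ⟩ := exists_locEq hJ hD (M2.tensorComm _ _ ≪≫ eD)
  have hval : ∀ (z : Spec (CommRingCat.of k) ⟶ C) (hz : z ≫ p = 𝟙 _),
      pc (Pic13.sliceAt k C p z hz) (pc (pullback.fst p p) (ptCls hdim y hy) * PicGrp.cls D hD) =
        ptCls hdim y hy * (ptCls hdim z hz)⁻¹ := by
    intro z hz
    rw [map_mul, pc_comp _ _ (show Pic13.sliceAt k C p z hz ≫ pullback.fst p p = 𝟙 C from pullback.lift_fst _ _ _),
      pc_id]
    congr 1
    haveI : IsClosedImmersion z := by
      haveI : IsClosedImmersion (z ≫ p) := by rw [hz]; infer_instance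
      exact IsClosedImmersion.of_comp z p
    have sq : IsPullback z z (pullback.diagonal p) (Pic13.sliceAt k C p z hz) := by
      refine IsPullback.of_bot ?_ ?_ (NumPoly18.isPullback_sliceAt p z hz)
      · rw [pullback.diagonal_snd]
        show IsPullback z (z ≫ p) (𝟙 C) z
        rw [hz]
        exact IsPullback.of_vert_isIso ⟨by simp⟩
      · apply pullback.hom_ext <;> simp [Pic13.sliceAt, p, reassoc_of% hz]
    rw [pc, PicGrp.pullHom_cls]
    exact eq_inv_of_mul_eq_one_left ((PicGrp.cls_mul_cls_eq_one_iff _ _).2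
      (nonempty_iso_of_locEq (isEffCartierIdeal_point hdim z hz) (PicLoc.isInvertible_pullback _ hD) (hσ.pullback sq)))
  exact ⟨C, p, inferInstance, inferInstance, inferInstance,
    pc (pullback.fst p p) (ptCls hdim y hy) * PicGrp.cls D hD, x, y, hx, hy, hval x hx,
    (hval y hy).trans (mul_inv_cancel _)⟩

variable [IsAlgClosed k]

/-- A section of a module of positive degree vanishes at a rational point. -/
theorem exists_zero {M : C.Modules} (hM : PicF.IsInvertible M) (hd : 0 < Curv2.deg k C M 1) (w : Coh.HH C M 0)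
    (hw : w ≠ 0) : ∃ (x : Spec (CommRingCat.of k) ⟶ C) (_ : x ≫ (C ↘ Spec (CommRingCat.of k)) = 𝟙 _),
      Nontrivial (Coh.HH C (CohB1.tensorMod M (ClSub.idealMod x.ker)) 0) := by
  let p := C ↘ Spec (CommRingCat.of k)
  let s := hh0 M w
  have hne : CohB1.genLocus M (secHom s) ≠ ⊤ := fun h => by
    obtain ⟨i⟩ := Twist.nonempty_iso_of_generator M s fun U => by
      have hU := Amp.isGenerator_genLocus hM (secHom s) U (h.symm ▸ le_top)
      simp only [Amp.res_res, Amp.gval_secHom] at hU
      exact hU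
    rw [deg_iso i, deg_structureModule] at hd
    exact lt_irrefl _ hd
  haveI : JacobsonSpace C := LocallyOfFiniteType.jacobsonSpace p
  have hne' : ((CohB1.genLocus M (secHom s) : Set C)ᶜ).Nonempty := Set.nonempty_compl.2 fun h => hne (Opens.ext h)
  obtain ⟨P, hPs, hP⟩ := nonempty_inter_closedPoints hne'
    (CohB1.genLocus M (secHom s)).isOpen.isClosed_compl.isLocallyClosed
  let x := pointOfClosedPoint p P hP
  have hx : x ≫ p = 𝟙 _ := pointOfClosedPoint_comp p P hP
  have hker : x.ker = Scheme.IdealSheafData.vanishingIdeal (⟨{P}, hP⟩ : Closeds C) := by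
    rw [SchImage.ker_eq_vanishingIdeal]
    congr 1
    refine Closeds.ext ?_
    show closure (Set.range x) = {P}
    rw [show Set.range x = {P} from Set.eq_singleton_iff_unique_mem.2
      ⟨⟨IsLocalRing.closedPoint k, pointOfClosedPoint_apply p P hP _⟩,
        by rintro _ ⟨a, rfl⟩; exact pointOfClosedPoint_apply p P hP a⟩]
    exact IsClosed.closure_eq hP
  refine ⟨x, hx, ?_⟩
  obtain ⟨U, e, hPU, -, -, he⟩ := Amp.exists_isGenerator hM (x := P) (V := ⊤) trivial
  have hg := Amp.gen_of_isGenerator he hPU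
  obtain ⟨a, ha⟩ := hg.2 (Amp.gm M P (U := ⊤) trivial s)
  simp only at ha
  have hna : ¬ IsUnit a := fun hu => hPs ((Amp.mem_genLocus_iff hM _).2 (by
    rw [Amp.gval_secHom, ← ha]
    exact (hg.ne_zero_smul a).2 hu))
  obtain ⟨b, hb⟩ := (germ_mem_iff (k := k) hM hP w).1 (by
    show Amp.gm M P (U := ⊤) trivial s ∈ _
    rw [← ha]
    exact Submodule.smul_mem_smul ((IsLocalRing.mem_maximalIdeal _).2 hna) trivial)
  have hb0 : b ≠ 0 := fun h => hw (by rw [← hb, h, map_zero])
  rw [hker]
  haveI : Nontrivial (Coh.HH C (CohB1.tensorMod (ClSub.idealMod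
      (Scheme.IdealSheafData.vanishingIdeal (⟨{P}, hP⟩ : Closeds C))) M) 0) := ⟨⟨b, 0, hb0⟩⟩
  exact (hequiv k (M2.tensorComm _ M) 0).toEquiv.symm.nontrivial

/-- Effective classes of degree `n` differ from `n` times a point by a class algebraically equivalent to zero. -/
theorem isAZ_of_section [ConnectedSpace C] (y : Spec (CommRingCat.of k) ⟶ C)
    (hy : y ≫ (C ↘ Spec (CommRingCat.of k)) = 𝟙 _) :
    ∀ (n : ℕ) (M : C.Modules) (hM : PicF.IsInvertible M), Curv2.deg k C M 1 = n → Nontrivial (Coh.HH C M 0) →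
      IsAZ k C (PicGrp.cls M hM * ptCls hdim y hy ^ n) := by
  have hX := CurveAmple18.curveLike k C hdim.le
  haveI := hX.noetherian
  intro n
  induction n with
  | zero =>
    intro M hM hd hs
    obtain ⟨i⟩ := (hX.deg_nonneg (rkOne_of_invertible hdim.le hM) hs).2 (by simpa using hd)
    rw [pow_zero, mul_one, (PicGrp.cls_eq_one_iff hM).2 ⟨i⟩]
    exact isAZ_one
  | succ n ih =>
    intro M hM hd hs
    obtain ⟨w, hw⟩ := exists_ne (0 : Coh.HH C M 0)
    obtain ⟨x, hx, hnt⟩ := exists_zero hdim hM (by rw [hd]; push_cast; omega) w hw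
    have hI := isInvertible_point hdim x hx
    have hd' : Curv2.deg k C (CohB1.tensorMod M (ClSub.idealMod x.ker)) 1 = n := by
      rw [hX.deg_tensor_invertible hM hI, hd, deg_point hdim x hx]
      push_cast
      ring
    have h1 := (ih _ (M2.isInvertible_tensor hM hI) hd' hnt).mul (isAZ_sub hdim x y hx hy)
    rw [← AlgEquiv22.cls_tensor hM hI] at h1
    have hcl : PicGrp.cls M hM * ptCls hdim y hy ^ (n + 1) = PicGrp.cls M hM * PicGrp.cls _ hI *
        ptCls hdim y hy ^ n * (ptCls hdim y hy * (ptCls hdim x hx)⁻¹) := by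
      rw [show PicGrp.cls (ClSub.idealMod x.ker) hI = ptCls hdim x hx from rfl, pow_succ]
      set a := ptCls hdim x hx
      set b := ptCls hdim y hy
      calc PicGrp.cls M hM * (b ^ n * b) = PicGrp.cls M hM * b ^ n * b * (a * a⁻¹) := by
            rw [mul_inv_cancel, mul_one, mul_assoc]
        _ = PicGrp.cls M hM * a * b ^ n * (b * a⁻¹) := by ac_rfl
    rw [hcl]
    exact h1

/-- Classes of degree zero are algebraically equivalent to zero. -/
theorem isAlgEquivZero_of_deg [ConnectedSpace C] {L : C.Modules} (hL : PicF.IsInvertible L)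
    (hd : Curv2.deg k C L 1 = 0) : Pic13.IsAlgEquivZero k C L := by
  have hX := CurveAmple18.curveLike k C hdim.le
  haveI := hX.noetherian
  let p := C ↘ Spec (CommRingCat.of k)
  haveI : JacobsonSpace C := LocallyOfFiniteType.jacobsonSpace p
  obtain ⟨P, -, hP⟩ := nonempty_inter_closedPoints (Z := (Set.univ : Set C)) Set.univ_nonempty isClosed_univ.isLocallyClosed
  let y := pointOfClosedPoint p P hP
  have hy : y ≫ p = 𝟙 _ := pointOfClosedPoint_comp p P hP
  obtain ⟨J, hJ, ⟨eJ⟩⟩ := M2.exists_inverse (isInvertible_point hdim y hy)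
  have hdJ : Curv2.deg k C J 1 = 1 := by
    rw [hX.deg_of_tensor_iso (isInvertible_point hdim y hy) hJ eJ, deg_point hdim y hy]
    norm_num
  let n := Curv2.genus k C + 1
  have hpow := M2.isInvertible_tensorPow hJ n
  have hM := M2.isInvertible_tensor hL hpow
  have hdM : Curv2.deg k C (CohB1.tensorMod L (CohB1.tensorPow J n)) 1 = n := by
    rw [hX.deg_tensor_invertible hL hpow, hd, hX.deg_tensorPow hJ n, hdJ]
    push_cast
    ring
  have hR := rkOne_of_invertible hdim.le hM
  haveI := hX.fin _ hR.coh 0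
  have hnt : Nontrivial (Coh.HH C (CohB1.tensorMod L (CohB1.tensorPow J n)) 0) := by
    refine Module.finrank_pos_iff.1 (?_ : 0 < Module.finrank k _)
    have hrr := hX.rr hR.coh
    rw [hdM] at hrr
    have := Nat.zero_le (Module.finrank k (Coh.HH C (Coh.structureModule C) 0))
    simp only [n] at hrr ⊢
    push_cast at hrr
    omega
  have h := isAZ_of_section hdim y hy n _ hM hdM hnt
  rw [← AlgEquiv22.cls_tensor hL hpow] at h
  have hp : PicGrp.cls (CohB1.tensorPow J n) hpow = PicGrp.cls J hJ ^ n :=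
    Subtype.ext (PicGrp.cls_pow_val hJ n).symm
  rw [hp, mul_assoc, ← mul_pow, mul_comm (PicGrp.cls J hJ),
    show ptCls hdim y hy * PicGrp.cls J hJ = 1 from (PicGrp.cls_mul_cls_eq_one_iff _ _).2 ⟨eJ⟩, one_pow, mul_one] at h
  exact h.isAlgEquivZero

end Groth.Agent.Abel10
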