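import Groth.Agent.Lib.Abel10.ZeroDiv
import Groth.Agent.Lib.Abel10.Fibre
import Groth.Agent.S8848
import Mathlib.AlgebraicGeometry.Morphisms.FlatRank
import Mathlib.AlgebraicGeometry.Morphisms.QuasiFinite
import Mathlib.AlgebraicGeometry.ZariskisMainTheorem

/-!
# The point cut out by a section of an invertible module of degree one
-/

set_option autoImplicit false
set_option linter.style.haveILetI false
set_option linter.unusedSectionVars false
set_option backward.isDefEq.respectTransparency false
set_option backward.isDefEq.respectTransparency.types false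

universe u

open CategoryTheory CategoryTheory.Limits AlgebraicGeometry TopologicalSpace Opposite

noncomputable section

namespace Groth.Agent.Abel10

open Groth.Agent.ModLimH13 Groth.Agent.CurveCoh17

theorem locallyOfFinitePresentation_of_isLocPrincipal {X : Scheme.{u}} {J : X.IdealSheafData}
    (hJ : Curv2.IsLocPrincipal J) : LocallyOfFinitePresentation J.subschemeι := by
  refine (HasRingHomProperty.iff_exists_appLE (P := @LocallyOfFinitePresentation)
    (RingHom.finitePresentation_stableUnderComposition.stableUnderCompositionWithLocalizationAway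
      RingHom.finitePresentation_holdsForLocalizationAway).left).2 fun z => ?_
  obtain ⟨U, hzU, a, ha⟩ := hJ (J.subschemeι z) (by
    have : J.subschemeι z ∈ Set.range J.subschemeι := ⟨z, rfl⟩
    rwa [Scheme.IdealSheafData.range_subschemeι] at this)
  refine ⟨U, ⟨J.subschemeι ⁻¹ᵁ U.1, U.2.preimage J.subschemeι⟩, hzU, le_rfl, ?_⟩
  rw [← Scheme.Hom.app_eq_appLE]
  refine RingHom.FinitePresentation.of_surjective _ (J.subschemeι_app_surjective U) ?_
  rw [J.ker_subschemeι_app, ha]
  exact ⟨{a}, by simp⟩

/-- A divisor of degree one on a curve over a field is a rational point. -/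
theorem isIso_of_deg_one {K : Type u} [Field K] {Z : Scheme.{u}} [Z.Over (Spec (CommRingCat.of K))]
    [IsProper (Z ↘ Spec (CommRingCat.of K))] (hd : topologicalKrullDim Z ≤ 1) {D : Z.IdealSheafData}
    (hD : BlowUp.IsEffCartierIdeal D) (hdeg : Curv2.deg K Z (ClSub.idealMod D) 1 = -1) :
    IsIso (D.subschemeι ≫ (Z ↘ Spec (CommRingCat.of K))) := by
  let c := D.subschemeι ≫ (Z ↘ Spec (CommRingCat.of K))
  haveI : IsFinite c := CurveAmple18.isFinite_divisor hd hD
  haveI : IsAffine D.subscheme := isAffine_of_isAffineHom c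
  have h1 : Module.finrank K (Coh.HH Z (ClSub.quotMod D) 0) = 1 := by
    have := CurveAmple18.deg_idealMod (k := K) hd hD
    rw [hdeg] at this
    omega
  let H := hh0 (ClSub.quotMod D)
  haveI : Nontrivial (Coh.HH Z (ClSub.quotMod D) 0) := Module.nontrivial_of_finrank_eq_succ h1
  let z := H.symm (show Γ(ClSub.quotMod D, ⊤) from (1 : Γ(D.subscheme, ⊤)))
  have hz : z ≠ 0 := fun hz => by
    obtain ⟨a, b, hab⟩ := exists_pair_ne (Coh.HH Z (ClSub.quotMod D) 0)
    have h10 : (1 : Γ(D.subscheme, ⊤)) = 0 := by
      have := congrArg H hz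
      rwa [AddEquiv.apply_symm_apply, map_zero] at this
    have hall : ∀ r : Γ(D.subscheme, ⊤), r = 0 := fun r => by rw [← one_mul r, h10, zero_mul]
    exact hab (H.injective ((hall (H a)).trans (hall (H b)).symm))
  have hb := (finrank_eq_one_iff_of_nonzero' z hz).1 h1
  have key : ∀ a : K, H (a • z) = (c.appTop ((Scheme.ΓSpecIso (CommRingCat.of K)).inv a) : Γ(D.subscheme, ⊤)) := fun a => by
    refine (hh0_smul _ _).trans ?_
    rw [AddEquiv.apply_symm_apply]
    exact mul_one (M := Γ(D.subscheme, ⊤)) _
  have hc : Function.Bijective fun a : K => (c.appTop ((Scheme.ΓSpecIso (CommRingCat.of K)).inv a) : Γ(D.subscheme, ⊤)) := by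
    refine ⟨fun a b hab => ?_, fun r => ?_⟩
    · by_contra hne
      refine hz ((smul_eq_zero_iff_right (sub_ne_zero.2 hne)).1 ?_)
      rw [sub_smul, sub_eq_zero]
      exact H.injective ((key a).trans (hab.trans (key b).symm))
    · obtain ⟨a, ha⟩ := hb (H.symm r)
      exact ⟨a, (key a).symm.trans ((congrArg H ha).trans (H.apply_symm_apply _))⟩
  haveI : IsIso c.appTop := (ConcreteCategory.isIso_iff_bijective _).2
    ((Function.Bijective.of_comp_iff _
      (ConcreteCategory.bijective_of_isIso (Scheme.ΓSpecIso (CommRingCat.of K)).inv)).1 hc)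
  have hc' : c = D.subscheme.isoSpec.hom ≫ Spec.map c.appTop ≫ (Spec (CommRingCat.of K)).isoSpec.inv := by
    rw [Scheme.isoSpec_inv_naturality, Iso.hom_inv_id_assoc]
  show IsIso c
  rw [hc']
  infer_instance

/-- The zero divisor of a section of degree one on a relative curve is a section. -/
theorem exists_section_of_deg_one {X T : Scheme.{u}} (p : X ⟶ T) [IsProper p] [Smooth p] [GeometricallyConnected p]
    (hdim : ∀ t : T, topologicalKrullDim ↥(p.fiber t) = 1) {L : X.Modules} (hL : PicF.IsInvertible L)
    (σ : Γ(L, (⊤ : X.Opens))) (hσ : ∀ t : T, res' (p.fiberι t) L (W := ⊤) (W' := ⊤) le_top σ ≠ 0)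
    (hdeg : ∀ t : T, letI : (p.fiber t).Over (Spec (CommRingCat.of (T.residueField t))) := ⟨p.fiberToSpecResidueField t⟩
      Curv2.deg (T.residueField t) (p.fiber t) ((Scheme.Modules.pullback (p.fiberι t)).obj L) 1 = 1) :
    ∃ (x : T ⟶ X) (_ : x ≫ p = 𝟙 T), IsClosedImmersion x ∧ BlowUp.IsEffCartierIdeal x.ker ∧ LocEq L x.ker σ := by
  obtain ⟨J, hs⟩ := exists_locEq_ideal hL σ
  have hfib : ∀ t : T, BlowUp.IsEffCartierIdeal (J.comap (p.fiberι t)) ∧
      IsIso ((J.comap (p.fiberι t)).subschemeι ≫ p.fiberToSpecResidueField t) := fun t => by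
    letI : (p.fiber t).Over (Spec (CommRingCat.of (T.residueField t))) := ⟨p.fiberToSpecResidueField t⟩
    have sq : IsPullback (p.fiberι t) (p.fiberToSpecResidueField t) p (T.fromSpecResidueField t) :=
      IsPullback.of_hasPullback _ _
    haveI : IsProper (p.fiber t ↘ Spec (CommRingCat.of (T.residueField t))) :=
      MorphismProperty.of_isPullback (P := @IsProper) sq inferInstance
    haveI : Smooth (p.fiber t ↘ Spec (CommRingCat.of (T.residueField t))) :=
      MorphismProperty.of_isPullback (P := @Smooth) sq inferInstance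
    haveI : GeometricallyConnected (p.fiber t ↘ Spec (CommRingCat.of (T.residueField t))) :=
      MorphismProperty.of_isPullback (P := @GeometricallyConnected) sq inferInstance
    haveI := VB17.isIntegral_of_smooth (k := T.residueField t) (X := p.fiber t)
    have hX := VB17.curveLike (k := T.residueField t) (hdim t)
    haveI := hX.noetherian
    have hst := hs.comap (p.fiberι t)
    have hLt := PicLoc.isInvertible_pullback (p.fiberι t) hL
    have hE := hst.isEffCartierIdeal (hdim t).le hLt (hσ t)
    obtain ⟨e⟩ := nonempty_iso_of_locEq hE hLt hst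
    have hd : Curv2.deg (T.residueField t) (p.fiber t) (ClSub.idealMod (J.comap (p.fiberι t))) 1 = -1 := by
      rw [hX.deg_of_tensor_iso hLt (M2.isInvertible_idealMod _ hE) e, hdeg t]
    exact ⟨hE, isIso_of_deg_one (hdim t).le hE hd⟩
  obtain ⟨hJ, hfl⟩ := S8848.result p J hs.isLocPrincipal fun t => (hfib t).1
  let π := J.subschemeι ≫ p
  haveI := locallyOfFinitePresentation_of_isLocPrincipal hs.isLocPrincipal
  haveI : Flat π := hfl
  haveI : LocallyOfFinitePresentation π := inferInstanceAs (LocallyOfFinitePresentation (_ ≫ _))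
  haveI : IsProper π := inferInstanceAs (IsProper (_ ≫ _))
  have hsq : ∀ t : T, ∃ w, IsPullback w ((J.comap (p.fiberι t)).subschemeι ≫ p.fiberToSpecResidueField t) π
      (T.fromSpecResidueField t) := fun t => by
    have sq : IsPullback (p.fiberι t) (p.fiberToSpecResidueField t) p (T.fromSpecResidueField t) :=
      IsPullback.of_hasPullback _ _
    refine ⟨(J.comapIso (p.fiberι t)).hom ≫ pullback.snd _ _, IsPullback.paste_vert ?_ sq⟩
    exact (IsPullback.of_hasPullback (p.fiberι t) J.subschemeι).flip.of_iso (J.comapIso (p.fiberι t)).symm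
      (Iso.refl _) (Iso.refl _) (Iso.refl _)
      (by rw [Iso.symm_hom, Iso.refl_hom, Category.comp_id, Iso.inv_hom_id_assoc]) (by simp) (by simp) (by simp)
  haveI : LocallyQuasiFinite π := LocallyQuasiFinite.of_finite_preimage_singleton π fun t => by
    haveI := (hfib t).2
    obtain ⟨w, hw⟩ := hsq t
    haveI : Subsingleton (Spec (T.residueField t)) := inferInstanceAs (Subsingleton (PrimeSpectrum (T.residueField t)))
    refine Set.Subsingleton.finite fun a ha b hb => ?_
    have hpre : ∀ a, π a = t → ∃ a', w a' = a := fun a ha => by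
      obtain ⟨y, hy, -⟩ := Scheme.Pullback.exists_preimage_pullback (f := π) (g := T.fromSpecResidueField t) a
        (IsLocalRing.closedPoint _) (by rw [T.fromSpecResidueField_apply]; exact ha)
      exact ⟨hw.isoPullback.inv y, by rw [← Scheme.Hom.comp_apply, hw.isoPullback_inv_fst, hy]⟩
    obtain ⟨a', ha'⟩ := hpre a ha
    obtain ⟨b', hb'⟩ := hpre b hb
    rw [← ha', ← hb', ((J.comap (p.fiberι t)).subschemeι ≫ p.fiberToSpecResidueField t).homeomorph.injective
      (Subsingleton.elim (α := Spec (T.residueField t))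
        (((J.comap (p.fiberι t)).subschemeι ≫ p.fiberToSpecResidueField t) a') _)]
  haveI : IsFinite π := IsFinite.of_isProper_of_locallyQuasiFinite π
  haveI : IsIso π := by
    refine (Scheme.Hom.isIso_iff_finrank_eq π).2 (funext fun t => ?_)
    haveI := (hfib t).2
    obtain ⟨w, hw⟩ := hsq t
    have := Scheme.Hom.finrank_of_isPullback _ _ _ _ hw (IsLocalRing.closedPoint _)
    rw [T.fromSpecResidueField_apply, Scheme.Hom.finrank_eq_one_of_isIso] at this
    exact this.symm
  refine ⟨inv π ≫ J.subschemeι, IsIso.inv_hom_id π, inferInstance, ?_⟩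
  rw [Scheme.Hom.ker_comp_of_isIso, J.ker_subschemeι]
  exact ⟨hJ, hs⟩

end Groth.Agent.Abel10
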