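import Groth.Agent.Lib.Abel10.Main
import Groth.Agent.Lib.VB17.Setup
import Groth.Agent.Lib.NumPoly18.FamilyEuler

/-!
# Base changes of a relative curve to fields
-/

set_option autoImplicit false
set_option linter.style.haveILetI false
set_option linter.unusedSectionVars false
set_option maxHeartbeats 1000000
set_option backward.isDefEq.respectTransparency false
set_option backward.isDefEq.respectTransparency.types false

universe u

open CategoryTheory CategoryTheory.Limits AlgebraicGeometry TopologicalSpace Opposite

noncomputable section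

namespace Groth.Agent.Abel10

variable {C S : Scheme.{u}} {f : C ⟶ S} [IsProper f] [Smooth f] [GeometricallyConnected f]
  {K : Type u} [Field K] {Z : Scheme.{u}} {pr : Z ⟶ C} {τ : Spec (CommRingCat.of K) ⟶ S}

theorem topologicalKrullDim_fieldPt [Z.Over (Spec (CommRingCat.of K))]
    (h : IsPullback pr (Z ↘ Spec (CommRingCat.of K)) f τ)
    (hdim : ∀ s : S, topologicalKrullDim ↥(f.fiber s) = 1) : topologicalKrullDim Z = 1 := by
  let s : S := τ (IsLocalRing.closedPoint K)
  let σ := Spec.map (Scheme.descResidueField (Scheme.stalkClosedPointTo τ))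
  have hσ : σ ≫ S.fromSpecResidueField s = τ := Scheme.descResidueField_stalkClosedPointTo_fromSpecResidueField K S τ
  have hs : IsPullback (f.fiberι s) (f.fiberToSpecResidueField s) f (S.fromSpecResidueField s) :=
    IsPullback.of_hasPullback _ _
  let l := hs.lift pr ((Z ↘ Spec (CommRingCat.of K)) ≫ σ) (by rw [Category.assoc, hσ, h.w])
  have hsq : IsPullback l (Z ↘ Spec (CommRingCat.of K)) (f.fiberToSpecResidueField s) σ :=
    IsPullback.of_right (by rw [hs.lift_fst, hσ]; exact h) (hs.lift_snd _ _ _) hs
  haveI : LocallyOfFiniteType (f.fiberToSpecResidueField s) :=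
    MorphismProperty.of_isPullback (P := @LocallyOfFiniteType) hs inferInstance
  exact (CurveLocus.topologicalKrullDim_bc (f.fiberToSpecResidueField s) hsq).trans (hdim _)

/-- The genus of the base change to a field. -/
theorem genus_fieldPt [Z.Over (Spec (CommRingCat.of K))]
    (h : IsPullback pr (Z ↘ Spec (CommRingCat.of K)) f τ) :
    Curv2.genus K Z = CohIII.fiberRank f (Coh.structureModule C) 1 (τ (IsLocalRing.closedPoint K)) := by
  let s : S := τ (IsLocalRing.closedPoint K)
  let O := Coh.structureModule C
  haveI hq : Coh.IsQCoh O := M1.isQCoh_structureModule C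
  obtain ⟨V, -, M, hsV⟩ := CBC10.exists_model_at f O CurveR1_10.isFP_structure (CurveR1_10.isFlatOver_structure f)
    (U := ⊤) (s := s) trivial
  let d := Scheme.descResidueField (Scheme.stalkClosedPointTo τ)
  let φ := S.evaluation V s hsV ≫ d
  letI : Algebra Γ(S, V) K := φ.hom.toAlgebra
  have hτ : τ = Spec.map (CommRingCat.ofHom (algebraMap Γ(S, V) K)) ≫ M.isAffine.fromSpec := by
    conv_lhs => rw [← Scheme.descResidueField_stalkClosedPointTo_fromSpecResidueField K S τ]
    rw [CBC10.fromSpecResidueField_eq (hU := M.isAffine) hsV, ← Category.assoc, ← Spec.map_comp]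
    rfl
  rw [hτ] at h
  have key := M.computes.finrank_bc_field hq (B := K) (X' := Z) (g := pr) h 1
  refine (((CBC10.hmapLinEquiv K (Twist.pullbackUnitIso pr).symm 1).finrank_eq).trans key).trans ?_
  rw [M.fiberRank_eq hq 1 ⟨s, hsV⟩]
  congr 1
  refine Eq.trans ?_ (CBC10.comap_evaluation (hU := M.isAffine) hsV)
  show PrimeSpectrum.comap (d.hom.comp (S.evaluation V s hsV).hom) _ = _
  rw [PrimeSpectrum.comap_comp_apply]
  congr 1
  exact PrimeSpectrum.ext ((RingHom.injective_iff_ker_eq_bot _).1 (RingHom.injective _))

theorem isProper_fieldPt [Z.Over (Spec (CommRingCat.of K))] (h : IsPullback pr (Z ↘ Spec (CommRingCat.of K)) f τ) :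
    IsProper (Z ↘ Spec (CommRingCat.of K)) :=
  MorphismProperty.of_isPullback (P := @IsProper) h inferInstance

theorem smooth_fieldPt [Z.Over (Spec (CommRingCat.of K))] (h : IsPullback pr (Z ↘ Spec (CommRingCat.of K)) f τ) :
    Smooth (Z ↘ Spec (CommRingCat.of K)) :=
  MorphismProperty.of_isPullback (P := @Smooth) h inferInstance

theorem geometricallyConnected_fieldPt [Z.Over (Spec (CommRingCat.of K))]
    (h : IsPullback pr (Z ↘ Spec (CommRingCat.of K)) f τ) :
    GeometricallyConnected (Z ↘ Spec (CommRingCat.of K)) :=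
  MorphismProperty.of_isPullback (P := @GeometricallyConnected) h inferInstance

theorem isIntegral_fieldPt [Z.Over (Spec (CommRingCat.of K))]
    (h : IsPullback pr (Z ↘ Spec (CommRingCat.of K)) f τ) : IsIntegral Z :=
  haveI := isProper_fieldPt h
  haveI := smooth_fieldPt h
  haveI := geometricallyConnected_fieldPt h
  VB17.isIntegral_of_smooth (k := K) (X := Z)

/-- Euler characteristics of invertible modules are unchanged by extensions of the field. -/
theorem euler_fieldPt [Z.Over (Spec (CommRingCat.of K))]
    (h : IsPullback pr (Z ↘ Spec (CommRingCat.of K)) f τ) {L : C.Modules} (hL : PicF.IsInvertible L) :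
    letI : (f.fiber (τ (IsLocalRing.closedPoint K))).Over (Spec (CommRingCat.of (S.residueField (τ (IsLocalRing.closedPoint K))))) :=
      ⟨f.fiberToSpecResidueField (τ (IsLocalRing.closedPoint K))⟩
    Curv2.euler K Z ((Scheme.Modules.pullback pr).obj L) =
      Curv2.euler (S.residueField (τ (IsLocalRing.closedPoint K))) (f.fiber (τ (IsLocalRing.closedPoint K)))
        ((Scheme.Modules.pullback (f.fiberι (τ (IsLocalRing.closedPoint K)))).obj L) := by
  let s : S := τ (IsLocalRing.closedPoint K)
  letI : (f.fiber s).Over (Spec (CommRingCat.of (S.residueField s))) := ⟨f.fiberToSpecResidueField s⟩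
  let σ := Spec.map (Scheme.descResidueField (Scheme.stalkClosedPointTo τ))
  have hσ : σ ≫ S.fromSpecResidueField s = τ := Scheme.descResidueField_stalkClosedPointTo_fromSpecResidueField K S τ
  have hs : IsPullback (f.fiberι s) (f.fiberToSpecResidueField s) f (S.fromSpecResidueField s) :=
    IsPullback.of_hasPullback _ _
  let l := hs.lift pr ((Z ↘ Spec (CommRingCat.of K)) ≫ σ) (by rw [Category.assoc, hσ, h.w])
  have hsq : IsPullback l (Z ↘ Spec (CommRingCat.of K)) (f.fiberToSpecResidueField s) σ :=
    IsPullback.of_right (by rw [hs.lift_fst, hσ]; exact h) (hs.lift_snd _ _ _) hs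
  haveI : IsProper (f.fiberToSpecResidueField s) := MorphismProperty.of_isPullback (P := @IsProper) hs inferInstance
  haveI : IsNoetherian (f.fiber s) := CohFound.isNoetherian_of_isProper (f.fiberToSpecResidueField s)
  have hG : Coh.IsCoh ((Scheme.Modules.pullback (f.fiberι s)).obj L) :=
    Snapper.isCoh_of_isInvertible (PicLoc.isInvertible_pullback _ hL)
  have h1 := NumPoly18.eulerChar_eq_euler (f.fiberToSpecResidueField s) hG (NumPoly18.isFlatOver_field _ _) l σ hsq
  have hid : IsPullback (𝟙 (f.fiber s)) (f.fiber s ↘ Spec (CommRingCat.of (S.residueField s)))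
      (f.fiberToSpecResidueField s) (𝟙 _) := IsPullback.of_horiz_isIso ⟨by rw [Category.id_comp, Category.comp_id]; rfl⟩
  have h2 := NumPoly18.eulerChar_eq_euler (k := S.residueField s) (f.fiberToSpecResidueField s) hG (NumPoly18.isFlatOver_field _ _) (𝟙 _) (𝟙 _) hid
  let i : (Scheme.Modules.pullback l).obj ((Scheme.Modules.pullback (f.fiberι s)).obj L) ≅
      (Scheme.Modules.pullback pr).obj L :=
    (Scheme.Modules.pullbackComp l (f.fiberι s)).app L ≪≫
      (Scheme.Modules.pullbackCongr (show l ≫ f.fiberι s = pr from hs.lift_fst _ _ _)).app L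
  let i' : (Scheme.Modules.pullback (𝟙 (f.fiber s))).obj ((Scheme.Modules.pullback (f.fiberι s)).obj L) ≅
      (Scheme.Modules.pullback (f.fiberι s)).obj L := (Scheme.Modules.pullbackId (f.fiber s)).app _
  rw [CurveCoh17.euler_iso i'] at h2
  rw [CurveCoh17.euler_iso i] at h1
  haveI : Subsingleton (Spec (S.residueField s)) := inferInstanceAs (Subsingleton (PrimeSpectrum (S.residueField s)))
  rw [← h1, ← h2]
  exact congrArg _ (Subsingleton.elim _ _)

/-- Degrees of invertible modules are unchanged by extensions of the field. -/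
theorem deg_fieldPt [Z.Over (Spec (CommRingCat.of K))]
    (h : IsPullback pr (Z ↘ Spec (CommRingCat.of K)) f τ) {L : C.Modules} (hL : PicF.IsInvertible L) :
    letI : (f.fiber (τ (IsLocalRing.closedPoint K))).Over (Spec (CommRingCat.of (S.residueField (τ (IsLocalRing.closedPoint K))))) :=
      ⟨f.fiberToSpecResidueField (τ (IsLocalRing.closedPoint K))⟩
    Curv2.deg K Z ((Scheme.Modules.pullback pr).obj L) 1 =
      Curv2.deg (S.residueField (τ (IsLocalRing.closedPoint K))) (f.fiber (τ (IsLocalRing.closedPoint K)))
        ((Scheme.Modules.pullback (f.fiberι (τ (IsLocalRing.closedPoint K)))).obj L) 1 := by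
  letI : (f.fiber (τ (IsLocalRing.closedPoint K))).Over (Spec (CommRingCat.of (S.residueField (τ (IsLocalRing.closedPoint K))))) :=
    ⟨f.fiberToSpecResidueField (τ (IsLocalRing.closedPoint K))⟩
  have hO := euler_fieldPt h (L := Coh.structureModule C) (PicLoc.isInvertible_structureModule C)
  rw [CurveCoh17.euler_iso (PicLoc.pullbackStructureIso _), CurveCoh17.euler_iso (PicLoc.pullbackStructureIso _)] at hO
  rw [Curv2.deg, Curv2.deg, euler_fieldPt h hL, hO]

end Groth.Agent.Abel10
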