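import Groth.Agent.Lib.Abel10.DegOne
import Groth.Agent.Lib.Abel10.FieldPt
import Groth.Agent.Lib.CurveCoh17.RegPoint

/-!
# Modules of degree one on a family of curves of genus one have sections locally on the base
-/

set_option autoImplicit false
set_option linter.style.haveILetI false
set_option linter.unusedSectionVars false
set_option maxHeartbeats 1000000
set_option backward.isDefEq.respectTransparency false
set_option backward.isDefEq.respectTransparency.types false

universe u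

open CategoryTheory CategoryTheory.Limits AlgebraicGeometry TopologicalSpace Opposite

noncomputable section

namespace Groth.Agent.Abel10

open Groth.Agent.ModLimH13 Groth.Agent.P1Split Groth.Agent.M1 Groth.Agent.CBC10

variable {X S : Scheme.{u}} (f : X ⟶ S)

theorem gen_res'_iff {X' : Scheme.{u}} (g : X' ⟶ X) {L : X.Modules} (hL : PicF.IsInvertible L) {W : X.Opens}
    (σ : Γ(L, W)) {W' : X'.Opens} (e : W' ≤ g ⁻¹ᵁ W) {z : X'} (hz : z ∈ W') :
    Amp.Gen (Amp.gm ((Scheme.Modules.pullback g).obj L) z hz (res' g L e σ)) ↔ Amp.Gen (Amp.gm L (g z) (e hz) σ) := by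
  rw [← Amp.gen_pullSec_iff g hL (e hz) σ]
  exact Iff.of_eq (congrArg Amp.Gen (Amp.gm_res e hz (M2.pullSec g L σ)))

theorem ne_zero_of_gen {L : X.Modules} {W : X.Opens} {σ : Γ(L, W)} {z : X} (hz : z ∈ W)
    (h : Amp.Gen (Amp.gm L z hz σ)) : σ ≠ 0 := fun h0 => by
  have h1 : Amp.gm L z hz σ = 0 := by rw [h0]; exact map_zero _
  rw [h1] at h
  exact one_ne_zero (h.1 (show (1 : X.presheaf.stalk z) • (0 : (L.presheaf.stalk z : Type u)) = (0 : X.presheaf.stalk z) • 0 by
    rw [smul_zero, smul_zero]))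

variable [IsProper f] [Flat f] [LocallyOfFinitePresentation f]

/-- Without `H¹` on the fibre and with nonzero sections there, some section near the fibre is nonzero on it. -/
theorem exists_section_nhd {L : X.Modules} (hL : PicF.IsInvertible L) (s : S)
    (h1 : Subsingleton (CohIII.fiberH f L s 1))
    (h0 : Nontrivial Γ((Scheme.Modules.pullback (f.fiberι s)).obj L, ⊤)) :
    ∃ (D : S.Opens) (hs : (⊤ : (f.fiber s).Opens) ≤ f.fiberι s ⁻¹ᵁ (f ⁻¹ᵁ D)) (σ : Γ(L, f ⁻¹ᵁ D)),
      res' (f.fiberι s) L hs σ ≠ 0 := by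
  haveI : HasInjectiveResolutions X.Modules := CohFound.hasInjectiveResolutions_modules X
  have hlfL := M2.isFinLocFree_of_isInvertible hL
  haveI hLq : Coh.IsQCoh L := M2.isQCoh_of_isFinLocFree hlfL
  have hfl : FlatMod.IsFlatOver f L := DPerf.isFlatOver_of_isFlat f (KFlat.Sch.isFlat_of_isFinLocFree hlfL)
  have h : IsPullback (f.fiberι s) (f.fiberToSpecResidueField s) f (S.fromSpecResidueField s) :=
    IsPullback.of_hasPullback _ _
  let g := S.fromSpecResidueField s
  let f' := f.fiberToSpecResidueField s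
  let ι := f.fiberι s
  let pF := (Scheme.Modules.pushforward f).obj L
  let T := (Scheme.Modules.pushforward f').obj ((Scheme.Modules.pullback ι).obj L)
  let β := CohBC.bc0 f g f' ι h.w L
  haveI : Subsingleton (Spec (S.residueField s)) := inferInstanceAs (Subsingleton (PrimeSpectrum (S.residueField s)))
  have eTop : ∀ {V : S.Opens}, s ∈ V → (⊤ : (Spec (S.residueField s)).Opens) ≤ g ⁻¹ᵁ V := fun {V} hV z _ => by
    show g z ∈ V
    rw [S.fromSpecResidueField_apply]
    exact hV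
  obtain ⟨V', M', hsV', hflat, -⟩ := CBC10.exists_nhd_H1 (M1.isFP_of_isFinLocFree hlfL) hfl s h1
  haveI hβ : IsIso β := CBC10.isIso_bc0 h L fun z => ⟨V', M', eTop hsV' (Opens.mem_top z), hflat⟩
  have hlf : FlatMod.IsFinLocFree (pF.restrict V'.ι) :=
    CBC10.isFinLocFree_push_restrict V' fun t ht => ⟨V', M', ht, le_rfl, hflat⟩
  obtain ⟨n, D₀, e₀, hsD₀, he₀⟩ := PushUnit3.exists_isBas_nhd' hlf ⟨s, hsV'⟩
  let D := V'.ι ''ᵁ D₀
  let E : Fin n → Γ(pF, D) := fun i => e₀ i
  have he : IsBas pF D E := isBas_of_restrict V'.ι pF he₀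
  have hsD : s ∈ D := ⟨⟨s, hsV'⟩, hsD₀, rfl⟩
  let b : Fin n → Γ(T, ⊤) := fun i => β.app ⊤ (res' g pF (eTop hsD) (E i))
  have hb : Function.Bijective fun c : Fin n → Γ(Spec (S.residueField s), ⊤) => ∑ i, c i • b i := by
    have h1 := AmpleFin18.isBas_pullback g he ⊤ (eTop hsD)
    have h2 := ConcreteCategory.bijective_of_isIso (β.app ⊤)
    have heq : (fun c : Fin n → Γ(Spec (S.residueField s), ⊤) => ∑ i, c i • b i) =
        β.app ⊤ ∘ fun c : Fin n → Γ(Spec (S.residueField s), ⊤) => ∑ i, c i • M1.mres _ (eTop hsD) (M2.pullSec g pF (E i)) := by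
      funext c
      simp only [Function.comp_apply, map_sum]
      exact Finset.sum_congr rfl fun i _ => (Scheme.Modules.Hom.app_smul β _ _).symm
    rw [heq]
    exact h2.comp h1
  haveI : Nontrivial Γ(T, ⊤) := h0
  obtain ⟨i, hi⟩ : ∃ i, b i ≠ 0 := by
    by_contra hall
    push Not at hall
    obtain ⟨t, ht⟩ := exists_ne (0 : Γ(T, ⊤))
    obtain ⟨c, hc⟩ := hb.2 t
    exact ht (by rw [← hc]; exact Finset.sum_eq_zero fun i _ => by rw [hall i, smul_zero])
  have e' : (⊤ : (f.fiber s).Opens) ≤ ι ⁻¹ᵁ (f ⁻¹ᵁ D) := fun z _ => by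
    show f (ι z) ∈ D
    rw [show f (ι z) = g (f' z) by rw [← Scheme.Hom.comp_apply, h.w]; rfl, S.fromSpecResidueField_apply]
    exact hsD
  refine ⟨D, e', E i, fun h00 => hi ?_⟩
  show β.app ⊤ (res' g pF (eTop hsD) (E i)) = 0
  rw [CBC10.bc0_res']
  exact h00

/-- On a curve of genus one, degree one forces `H¹ = 0` and a nonzero section. -/
theorem sections_of_deg_one {K : Type u} [Field K] {Z : Scheme.{u}} [Z.Over (Spec (CommRingCat.of K))]
    [IsProper (Z ↘ Spec (CommRingCat.of K))] [Smooth (Z ↘ Spec (CommRingCat.of K))]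
    [GeometricallyConnected (Z ↘ Spec (CommRingCat.of K))] (hdim : topologicalKrullDim Z = 1)
    (hg : Curv2.genus K Z = 1) {L : Z.Modules} (hL : PicF.IsInvertible L) (hd : Curv2.deg K Z L 1 = 1) :
    Subsingleton (Coh.HH Z L 1) ∧ Nontrivial Γ(L, ⊤) := by
  haveI := VB17.isIntegral_of_smooth (k := K) (X := Z)
  haveI := GeomRed.geometricallyReduced_of_smooth (k := K) (X := Z)
  have hX := VB17.curveLike (k := K) hdim
  haveI := hX.noetherian
  have h0 := S1536.result K Z
  have hR := CurveCoh17.rkOne_of_invertible hdim.le hL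
  have h1 := hX.h1_subsingleton_of_deg hR h0 (by rw [hd, hg]; norm_num)
  refine ⟨h1, ?_⟩
  have hrr := hX.rr hR.coh
  rw [h0, hd, hg, Module.finrank_zero_of_subsingleton (M := Coh.HH Z L 1)] at hrr
  haveI : Nontrivial (Coh.HH Z L 0) := Module.nontrivial_of_finrank_eq_succ (n := 0) (by omega : Module.finrank K (Coh.HH Z L 0) = 1)
  exact (CurveCoh17.hh0 L).toEquiv.symm.nontrivial

/-- A module of degree one on a family of curves of genus one is locally on the base cut out by a point. -/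
theorem exists_point_nhd {X S : Scheme.{u}} (f : X ⟶ S) [IsProper f] [Smooth f] [GeometricallyConnected f]
    (hdim : ∀ s : S, topologicalKrullDim ↥(f.fiber s) = 1)
    (hgen : ∀ s : S, CohIII.fiberRank f (Coh.structureModule X) 1 s = 1) {L : X.Modules} (hL : PicF.IsInvertible L)
    (hdeg : ∀ s : S, letI : (f.fiber s).Over (Spec (CommRingCat.of (S.residueField s))) := ⟨f.fiberToSpecResidueField s⟩
      Curv2.deg (S.residueField s) (f.fiber s) ((Scheme.Modules.pullback (f.fiberι s)).obj L) 1 = 1) (s : S) :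
    ∃ (U : S.Opens) (_ : s ∈ U) (x : (U : Scheme.{u}) ⟶ pullback f U.ι),
      x ≫ pullback.snd f U.ι = 𝟙 _ ∧ IsClosedImmersion x ∧ BlowUp.IsEffCartierIdeal x.ker ∧
        ∃ σ : Γ((Scheme.Modules.pullback (pullback.fst f U.ι)).obj L, ⊤),
          LocEq ((Scheme.Modules.pullback (pullback.fst f U.ι)).obj L) x.ker σ := by
  letI : (f.fiber s).Over (Spec (CommRingCat.of (S.residueField s))) := ⟨f.fiberToSpecResidueField s⟩
  have sq : IsPullback (f.fiberι s) (f.fiber s ↘ Spec (CommRingCat.of (S.residueField s))) f (S.fromSpecResidueField s) :=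
    IsPullback.of_hasPullback _ _
  haveI := isProper_fieldPt sq
  haveI := smooth_fieldPt sq
  haveI := geometricallyConnected_fieldPt sq
  haveI := isIntegral_fieldPt sq
  have hg1 : Curv2.genus (S.residueField s) (f.fiber s) = 1 := (genus_fieldPt sq).trans (hgen _)
  have hLs := PicLoc.isInvertible_pullback (f.fiberι s) hL
  obtain ⟨h1, h0⟩ := sections_of_deg_one (hdim s) hg1 hLs (hdeg s)
  obtain ⟨D, hsD, σ, hσ⟩ := exists_section_nhd f hL s h1 h0
  have hη : Amp.Gen (Amp.gm _ (genericPoint (f.fiber s)) (U := ⊤) trivial (res' (f.fiberι s) L hsD σ)) :=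
    CurveCoh17.span_germ_genericPoint hLs hσ
  rw [gen_res'_iff (f.fiberι s) hL σ hsD] at hη
  let z₀ := f.fiberι s (genericPoint (f.fiber s))
  have hz₀ : z₀ ∈ f ⁻¹ᵁ D := hsD trivial
  obtain ⟨W, g, hzW, hWD, -, hg⟩ := Amp.exists_isGenerator hL hz₀
  obtain ⟨a, ha⟩ := (hg W le_rfl).2 (M1.mres L hWD σ)
  simp only [M2.res_self] at ha
  have hgW : ∀ z (hz : z ∈ W), Amp.gm L z (hWD hz) σ = X.presheaf.germ W z hz a • Amp.gm L z hz g := fun z hz => by
    rw [← Amp.gm_smul, ha]
    exact (Amp.gm_res hWD hz σ).symm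
  let G : X.Opens := X.basicOpen a
  have hGW : G ≤ W := X.basicOpen_le a
  have hGgen : ∀ z (hz : z ∈ G), Amp.Gen (Amp.gm L z (hWD (hGW hz)) σ) := fun z hz => by
    rw [hgW z (hGW hz)]
    exact (Amp.Gen.ne_zero_smul (g := Amp.gm L z (hGW hz) g) (Amp.gen_of_isGenerator hg (hGW hz)) _).2
      ((Scheme.mem_basicOpen X a z (hGW hz)).1 hz)
  have hz₀G : z₀ ∈ G := by
    refine (Scheme.mem_basicOpen X a z₀ hzW).2 ?_
    have h2 : Amp.Gen (Amp.gm L z₀ (hWD hzW) σ) := hη
    rw [hgW z₀ hzW] at h2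
    exact (Amp.Gen.ne_zero_smul (g := Amp.gm L z₀ hzW g) (Amp.gen_of_isGenerator hg hzW) _).1 h2
  let U : S.Opens := D ⊓ ⟨f '' (G : Set X), f.isOpenMap _ G.2⟩
  have hfz₀ : f z₀ = s := by
    have hmem : f.fiberι s (genericPoint (f.fiber s)) ∈ Set.range (f.fiberι s) := ⟨_, rfl⟩
    rwa [f.range_fiberι] at hmem
  have hsU : s ∈ U := ⟨hfz₀ ▸ hz₀, z₀, hz₀G, hfz₀⟩
  let m := pullback.fst f U.ι
  let p := pullback.snd f U.ι
  have hm : (⊤ : (pullback f U.ι).Opens) ≤ m ⁻¹ᵁ (f ⁻¹ᵁ D) := fun z _ => by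
    show f (m z) ∈ D
    rw [← Scheme.Hom.comp_apply, pullback.condition, Scheme.Hom.comp_apply]
    exact (p z).2.1
  let σ' := res' m L hm σ
  let L' := (Scheme.Modules.pullback m).obj L
  have hL' : PicF.IsInvertible L' := PicLoc.isInvertible_pullback m hL
  have hσ' : ∀ t, res' (p.fiberι t) L' (W := ⊤) (W' := ⊤) le_top σ' ≠ 0 := fun t => by
    obtain ⟨w, hwG, hwt⟩ := t.2.2
    obtain ⟨z, hzw, hzt⟩ := Scheme.Pullback.exists_preimage_pullback (f := f) (g := U.ι) w t hwt
    obtain ⟨z', hz'⟩ : z ∈ Set.range (p.fiberι t) := by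
      rw [p.range_fiberι]
      exact hzt
    refine ne_zero_of_gen (z := z') trivial ((gen_res'_iff (p.fiberι t) hL' σ' (W' := ⊤) le_top (z := z') trivial).2 ?_)
    refine (gen_res'_iff m hL σ hm (z := p.fiberι t z') trivial).2 ?_
    have key : ∀ u (hu : u ∈ f ⁻¹ᵁ D), u = w → Amp.Gen (Amp.gm L u hu σ) := fun u hu h => by
      subst h
      exact hGgen u hwG
    exact key _ _ (by rw [hz']; exact hzw)
  have hfield : ∀ t : U.toScheme, topologicalKrullDim ↥(p.fiber t) = 1 ∧
      (letI : (p.fiber t).Over (Spec (CommRingCat.of (U.toScheme.residueField t))) := ⟨p.fiberToSpecResidueField t⟩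
      Curv2.deg (U.toScheme.residueField t) (p.fiber t) ((Scheme.Modules.pullback (p.fiberι t)).obj L') 1 = 1) := fun t => by
    letI : (p.fiber t).Over (Spec (CommRingCat.of (U.toScheme.residueField t))) := ⟨p.fiberToSpecResidueField t⟩
    have h : IsPullback (p.fiberι t ≫ m) (p.fiber t ↘ Spec (CommRingCat.of (U.toScheme.residueField t))) f
        (U.toScheme.fromSpecResidueField t ≫ U.ι) :=
      (IsPullback.of_hasPullback p (U.toScheme.fromSpecResidueField t)).paste_horiz (IsPullback.of_hasPullback f U.ι)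
    refine ⟨topologicalKrullDim_fieldPt h hdim, ?_⟩
    let i : (Scheme.Modules.pullback (p.fiberι t)).obj L' ≅ (Scheme.Modules.pullback (p.fiberι t ≫ m)).obj L :=
      (Scheme.Modules.pullbackComp _ _).app L
    rw [CurveCoh17.deg_iso i, deg_fieldPt h hL]
    exact hdeg _
  obtain ⟨x, hx, hci, hE, hs⟩ := exists_section_of_deg_one p (fun t => (hfield t).1) hL' σ' hσ' fun t => (hfield t).2
  exact ⟨U, hsU, x, hx, hci, hE, σ', hs⟩

end Groth.Agent.Abel10
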