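import Groth.Agent.Lib.Abel10.DegOneNhd
import Groth.Agent.Lib.Abel10.CurvePts
import Groth.Agent.S12412

/-!
# The Abel map of a family of curves of genus one with a section
-/

set_option autoImplicit false
set_option linter.style.haveILetI false
set_option linter.unusedSectionVars false
set_option maxHeartbeats 1000000
set_option backward.isDefEq.respectTransparency false
set_option backward.isDefEq.respectTransparency.types false

universe u

open CategoryTheory CategoryTheory.Limits AlgebraicGeometry TopologicalSpace Opposite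

noncomputable section

namespace Groth.Agent.Abel10

open Groth.Agent.ModLimH13

noncomputable local instance instLawElliptic (Y : Scheme.{u}) : PicGrp.Law Y := M2.law Y

/-- A section with a local equation is effective Cartier on a family of curves. -/
theorem isEffCartierIdeal_section {X T : Scheme.{u}} (p : X ⟶ T) [IsProper p] [Smooth p] [GeometricallyConnected p]
    (hdim : ∀ t : T, topologicalKrullDim ↥(p.fiber t) = 1) (γ : T ⟶ X) (hγ : γ ≫ p = 𝟙 T) [IsClosedImmersion γ]
    {L : X.Modules} (hL : PicF.IsInvertible L) {σ : Γ(L, (⊤ : X.Opens))} (hs : LocEq L γ.ker σ) :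
    BlowUp.IsEffCartierIdeal γ.ker := by
  refine (S8848.result p γ.ker hs.isLocPrincipal fun t => ?_).1
  letI : (p.fiber t).Over (Spec (CommRingCat.of (T.residueField t))) := ⟨p.fiberToSpecResidueField t⟩
  have sq : IsPullback (p.fiberι t) (p.fiber t ↘ Spec (CommRingCat.of (T.residueField t))) p (T.fromSpecResidueField t) :=
    IsPullback.of_hasPullback _ _
  haveI := isProper_fieldPt sq
  haveI := isIntegral_fieldPt sq
  haveI : IsNoetherian (p.fiber t) := CohFound.isNoetherian_of_isProper (p.fiber t ↘ Spec (CommRingCat.of (T.residueField t)))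
  let q : Spec (T.residueField t) ⟶ p.fiber t := sq.lift (T.fromSpecResidueField t ≫ γ) (𝟙 _)
    (by rw [Category.assoc, hγ, Category.comp_id, Category.id_comp])
  have hq : q ≫ (p.fiber t ↘ Spec (CommRingCat.of (T.residueField t))) = 𝟙 _ := sq.lift_snd _ _ _
  have sqγ : IsPullback (T.fromSpecResidueField t) q γ (p.fiberι t) := by
    refine IsPullback.of_bot ?_ (sq.lift_fst _ _ _).symm sq
    rw [hq, hγ]
    exact IsPullback.of_vert_isIso ⟨by simp⟩
  haveI : IsClosedImmersion q := MorphismProperty.of_isPullback (P := @IsClosedImmersion) sqγ inferInstance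
  refine (hs.comap (p.fiberι t)).isEffCartierIdeal (hdim t).le (PicLoc.isInvertible_pullback _ hL) fun h => ?_
  obtain ⟨l, hl⟩ := exists_factor q (hs.pullback sqγ) (𝟙 _) (by
    rw [h]
    exact map_zero (AddMonoidHom.mk' (res' (𝟙 (p.fiber t)) _ (W := ⊤) (W' := ⊤) le_top) (res'_add _ _ _)))
  have := (hdim t).symm.trans_le (topologicalKrullDim_le_of_retract q l hl)
  exact absurd this (by norm_num)

variable {C S : Scheme.{u}} (f : C ⟶ S) [IsProper f] [Smooth f] [GeometricallyConnected f]
  (hdim : ∀ s : S, topologicalKrullDim ↥(f.fiber s) = 1)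
  {LΔ : (pullback f f).Modules} (hLΔ : PicF.IsInvertible LΔ) {σΔ : Γ(LΔ, (⊤ : (pullback f f).Opens))}
  (hσΔ : LocEq LΔ (pullback.diagonal f).ker σΔ)

include hdim hLΔ hσΔ

/-- The diagonal has degree one on the fibres. -/
theorem deg_diag {K : Type u} [Field K] {Z : Scheme.{u}} [Z.Over (Spec (CommRingCat.of K))]
    {m : Z ⟶ pullback f f} {z : Spec (CommRingCat.of K) ⟶ C}
    (sq : IsPullback m (Z ↘ Spec (CommRingCat.of K)) (pullback.snd f f) z) :
    Curv2.deg K Z ((Scheme.Modules.pullback m).obj LΔ) 1 = 1 := by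
  have h : IsPullback (m ≫ pullback.fst f f) (Z ↘ Spec (CommRingCat.of K)) f (z ≫ f) :=
    sq.paste_horiz (IsPullback.of_hasPullback f f)
  haveI := isProper_fieldPt h
  haveI := smooth_fieldPt h
  haveI := geometricallyConnected_fieldPt h
  haveI := isIntegral_fieldPt h
  have hd := topologicalKrullDim_fieldPt h hdim
  let q : Spec (CommRingCat.of K) ⟶ Z := sq.lift (z ≫ pullback.diagonal f) (𝟙 _)
    (by rw [Category.assoc, pullback.diagonal_snd, Category.comp_id, Category.id_comp])
  have hq : q ≫ (Z ↘ Spec (CommRingCat.of K)) = 𝟙 _ := sq.lift_snd _ _ _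
  have sqq : IsPullback z q (pullback.diagonal f) m := by
    refine IsPullback.of_bot ?_ (sq.lift_fst _ _ _).symm sq
    rw [hq, pullback.diagonal_snd]
    exact IsPullback.of_vert_isIso ⟨by simp⟩
  haveI : IsClosedImmersion q := MorphismProperty.of_isPullback (P := @IsClosedImmersion) sqq inferInstance
  obtain ⟨i⟩ := nonempty_iso_of_locEq (isEffCartierIdeal_point hd q hq) (PicLoc.isInvertible_pullback m hLΔ)
    (hσΔ.pullback sqq)
  have hX := CurveAmple18.curveLike K Z hd.le
  haveI := hX.noetherian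
  rw [hX.deg_of_tensor_iso (isInvertible_point hd q hq) (PicLoc.isInvertible_pullback m hLΔ)
    (M2.tensorComm _ _ ≪≫ i), deg_point hd q hq]
  norm_num

variable (e : S ⟶ C) (he : e ≫ f = 𝟙 S)

omit hdim hLΔ hσΔ in
/-- The map to the square over a section. -/
def secSq : C ⟶ pullback f f := pullback.lift (𝟙 C) (f ≫ e) (by rw [Category.id_comp, Category.assoc, he, Category.comp_id])

omit hdim hLΔ hσΔ in
theorem isPullback_secSq : IsPullback (secSq f e he) f (pullback.snd f f) e := by
  refine IsPullback.of_right ?_ (pullback.lift_snd _ _ _) (IsPullback.of_hasPullback f f)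
  rw [secSq, pullback.lift_fst, he]
  exact IsPullback.of_horiz_isIso ⟨by simp⟩

omit hdim hLΔ hσΔ in
theorem isPullback_sec : IsPullback e e (pullback.diagonal f) (secSq f e he) := by
  refine IsPullback.of_bot ?_ ?_ (isPullback_secSq f e he)
  · rw [he, pullback.diagonal_snd]
    exact IsPullback.of_vert_isIso ⟨by simp⟩
  · apply pullback.hom_ext
    · simp [secSq]
    · simp [secSq, reassoc_of% he]

/-- The ideal of the section and its inverse. -/
theorem secIdeal : ∃ (_ : IsClosedImmersion e) (hI : PicF.IsInvertible (ClSub.idealMod e.ker)),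
    PicGrp.cls ((Scheme.Modules.pullback (secSq f e he)).obj LΔ) (PicLoc.isInvertible_pullback _ hLΔ) *
      PicGrp.cls (ClSub.idealMod e.ker) hI = 1 := by
  haveI : IsClosedImmersion e := MorphismProperty.of_isPullback (P := @IsClosedImmersion) (isPullback_sec f e he) inferInstance
  have hs := hσΔ.pullback (isPullback_sec f e he)
  have hL := PicLoc.isInvertible_pullback (secSq f e he) hLΔ
  have hE := isEffCartierIdeal_section f hdim e he hL hs
  exact ⟨inferInstance, M2.isInvertible_idealMod _ hE,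
    (PicGrp.cls_mul_cls_eq_one_iff _ _).2 (nonempty_iso_of_locEq hE hL hs)⟩

variable (hI : PicF.IsInvertible (ClSub.idealMod e.ker))

omit hdim hσΔ in
/-- The class `O(Δ - e × C)`. -/
def abelCls : PicLoc.PicSet (pullback f f) :=
  PicGrp.cls LΔ hLΔ * pc (pullback.fst f f) (PicGrp.cls (ClSub.idealMod e.ker) hI)

include he

omit hdim hLΔ hσΔ in
theorem isPullback_secSq_comp {K : Type u} [Field K] {Z : Scheme.{u}} [Z.Over (Spec (CommRingCat.of K))]
    {pr : Z ⟶ C} {τ : Spec (CommRingCat.of K) ⟶ S} (h : IsPullback pr (Z ↘ Spec (CommRingCat.of K)) f τ) :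
    IsPullback (pr ≫ secSq f e he) (Z ↘ Spec (CommRingCat.of K)) (pullback.snd f f) (τ ≫ e) :=
  h.paste_horiz (isPullback_secSq f e he)

/-- The ideal of the section has degree minus one on the fibres. -/
theorem deg_secIdeal {K : Type u} [Field K] {Z : Scheme.{u}} [Z.Over (Spec (CommRingCat.of K))]
    {pr : Z ⟶ C} {τ : Spec (CommRingCat.of K) ⟶ S} (h : IsPullback pr (Z ↘ Spec (CommRingCat.of K)) f τ) :
    Curv2.deg K Z ((Scheme.Modules.pullback pr).obj (ClSub.idealMod e.ker)) 1 = -1 := by
  obtain ⟨-, hI, hone⟩ := secIdeal f hdim hLΔ hσΔ e he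
  haveI := isProper_fieldPt h
  haveI := isIntegral_fieldPt h
  have hd := topologicalKrullDim_fieldPt h hdim
  have hX := CurveAmple18.curveLike K Z hd.le
  haveI := hX.noetherian
  have hA := PicLoc.isInvertible_pullback pr (PicLoc.isInvertible_pullback (secSq f e he) hLΔ)
  have hB := PicLoc.isInvertible_pullback pr hI
  have h1 := congrArg (pc pr) hone
  rw [map_mul, map_one, pc, PicGrp.pullHom_cls, PicGrp.pullHom_cls, PicGrp.cls_mul_cls_eq_one_iff] at h1
  obtain ⟨i⟩ := h1
  let j : (Scheme.Modules.pullback pr).obj ((Scheme.Modules.pullback (secSq f e he)).obj LΔ) ≅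
      (Scheme.Modules.pullback (pr ≫ secSq f e he)).obj LΔ := (Scheme.Modules.pullbackComp _ _).app LΔ
  rw [hX.deg_of_tensor_iso hA hB i, CurveCoh17.deg_iso j, deg_diag f hdim hLΔ hσΔ (isPullback_secSq_comp f e he h)]

/-- The class `O(Δ - e × C)` is algebraically trivial on the fibres. -/
theorem isPicZeroCl_abelCls : AbDual.IsPicZeroCl f (Over.mk f) (abelCls f hLΔ e hI).1 := by
  let N := (Scheme.Modules.pullback (pullback.fst f f)).obj (ClSub.idealMod e.ker)
  have hN : PicF.IsInvertible N := PicLoc.isInvertible_pullback _ hI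
  refine ⟨CohB1.tensorMod LΔ N, ?_, M2.isInvertible_tensor hLΔ hN, fun t Ω _ _ s hst => ?_⟩
  · rw [abelCls, pc, PicGrp.pullHom_cls, AlgEquiv22.cls_tensor]
    rfl
  let p : pullback f f ⟶ C := pullback.snd f f
  letI : (pullback p s).Over (Spec (CommRingCat.of Ω)) := ⟨pullback.snd p s⟩
  show Pic13.IsAlgEquivZero Ω (pullback p s) ((Scheme.Modules.pullback (pullback.fst p s)).obj (CohB1.tensorMod LΔ N))
  let m : pullback p s ⟶ pullback f f := pullback.fst p s
  have sq : IsPullback m (pullback p s ↘ Spec (CommRingCat.of Ω)) (pullback.snd f f) s :=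
    IsPullback.of_hasPullback p s
  have h : IsPullback (m ≫ pullback.fst f f) (pullback p s ↘ Spec (CommRingCat.of Ω)) f (s ≫ f) :=
    sq.paste_horiz (IsPullback.of_hasPullback f f)
  haveI := isProper_fieldPt h
  haveI := smooth_fieldPt h
  haveI := geometricallyConnected_fieldPt h
  haveI := isIntegral_fieldPt h
  have hd := topologicalKrullDim_fieldPt h hdim
  have hX := CurveAmple18.curveLike Ω (pullback p s) hd.le
  haveI := hX.noetherian
  haveI : ConnectedSpace ↥(pullback p s) := VB17.connectedSpace_of_geometricallyConnected (k := Ω)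
  have hA := PicLoc.isInvertible_pullback m hLΔ
  have hB := PicLoc.isInvertible_pullback m hN
  refine isAlgEquivZero_of_deg hd (PicLoc.isInvertible_pullback m (M2.isInvertible_tensor hLΔ hN)) ?_
  let j : (Scheme.Modules.pullback m).obj N ≅
      (Scheme.Modules.pullback (m ≫ pullback.fst f f)).obj (ClSub.idealMod e.ker) :=
    (Scheme.Modules.pullbackComp _ _).app _
  rw [CurveCoh17.deg_iso (M2.pullTensorIso m LΔ N), hX.deg_tensor_invertible hA hB, deg_diag f hdim hLΔ hσΔ sq,
    CurveCoh17.deg_iso j, deg_secIdeal f hdim hLΔ hσΔ e he h]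
  norm_num

omit hdim hσΔ in
theorem pc_toSq_abelCls {T : Scheme.{u}} (t : T ⟶ S) (x : T ⟶ C) (hx : x ≫ f = t) :
    pc (toSq f t x hx) (abelCls f hLΔ e hI) = pc (toSq f t x hx) (PicGrp.cls LΔ hLΔ) *
      pc (pullback.fst f t) (PicGrp.cls (ClSub.idealMod e.ker) hI) := by
  rw [abelCls, map_mul, pc_comp _ _ (show toSq f t x hx ≫ pullback.fst f f = pullback.fst f t from pullback.lift_fst _ _ _)]

/-- A class algebraically trivial on the fibres is, locally on the base, `O(x - e)` for a point `x`. -/
theorem exists_point_of_picZero (hgen : ∀ s : S, CohIII.fiberRank f (Coh.structureModule C) 1 s = 1) (T : Over S)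
    (c : PicF.Cl (PicF.XT f T)) (hc : AbDual.IsPicZeroCl f T c) (t : T.left) :
    ∃ (U : T.left.Opens) (_ : t ∈ U) (x : (U : Scheme.{u}) ⟶ C) (hx : x ≫ f = U.ι ≫ T.hom),
      PicF.pullCl (PicF.XTmap f (AbDual.ovrHom T U.ι)) c =
        (pc (toSq f (U.ι ≫ T.hom) x hx) (abelCls f hLΔ e hI)).1 := by
  obtain ⟨L, rfl, hL, halg⟩ := hc
  obtain ⟨-, _, hone⟩ := secIdeal f hdim hLΔ hσΔ e he
  let p : PicF.XT f T ⟶ T.left := pullback.snd f T.hom
  haveI : IsProper p := inferInstanceAs (IsProper (pullback.snd f T.hom))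
  haveI : Smooth p := inferInstanceAs (Smooth (pullback.snd f T.hom))
  haveI : GeometricallyConnected p := inferInstanceAs (GeometricallyConnected (pullback.snd f T.hom))
  let Le := (Scheme.Modules.pullback (secSq f e he)).obj LΔ
  have hLe : PicF.IsInvertible Le := PicLoc.isInvertible_pullback _ hLΔ
  let N := (Scheme.Modules.pullback (pullback.fst f T.hom)).obj Le
  have hN : PicF.IsInvertible N := PicLoc.isInvertible_pullback _ hLe
  let M := CohB1.tensorMod L N
  have hM : PicF.IsInvertible M := M2.isInvertible_tensor hL hN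
  have hfib : ∀ y : T.left, topologicalKrullDim ↥(p.fiber y) = 1 ∧
      CohIII.fiberRank p (Coh.structureModule (PicF.XT f T)) 1 y = 1 ∧
      (letI : (p.fiber y).Over (Spec (CommRingCat.of (T.left.residueField y))) := ⟨p.fiberToSpecResidueField y⟩
      Curv2.deg (T.left.residueField y) (p.fiber y) ((Scheme.Modules.pullback (p.fiberι y)).obj M) 1 = 1) := fun y => by
    letI : (p.fiber y).Over (Spec (CommRingCat.of (T.left.residueField y))) := ⟨p.fiberToSpecResidueField y⟩
    have sq : IsPullback (p.fiberι y) (p.fiber y ↘ Spec (CommRingCat.of (T.left.residueField y))) p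
        (T.left.fromSpecResidueField y) := IsPullback.of_hasPullback _ _
    have h : IsPullback (p.fiberι y ≫ pullback.fst f T.hom) (p.fiber y ↘ Spec (CommRingCat.of (T.left.residueField y))) f
        (T.left.fromSpecResidueField y ≫ T.hom) := sq.paste_horiz (IsPullback.of_hasPullback f T.hom)
    have hd := topologicalKrullDim_fieldPt h hdim
    haveI := isProper_fieldPt h
    haveI := isIntegral_fieldPt h
    have hX := CurveAmple18.curveLike (T.left.residueField y) (p.fiber y) hd.le
    haveI := hX.noetherian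
    refine ⟨hd, ((genus_fieldPt sq).trans ?_).symm.trans ((genus_fieldPt h).trans (hgen _)), ?_⟩
    · exact congrArg (CohIII.fiberRank p _ 1) (T.left.fromSpecResidueField_apply y _)
    have hLy := PicLoc.isInvertible_pullback (p.fiberι y) hL
    have h12 := S12412.result f hdim T L hL y (halg y)
    have hd0 : Curv2.deg (T.left.residueField y) (p.fiber y) ((Scheme.Modules.pullback (p.fiberι y)).obj L) 1 = 0 := by
      have hA := Snapper.eulerCharLE_eq_euler (k := T.left.residueField y) (X := p.fiber y) 1 hd.le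
        (Snapper.isCoh_of_isInvertible hLy)
      have hB := Snapper.eulerCharLE_eq_euler (k := T.left.residueField y) (X := p.fiber y) 1 hd.le
        (M1.isCoh_structureModule (p.fiber y))
      have h12' := hA.symm.trans (h12.trans hB)
      rw [Curv2.deg, h12']
      push_cast
      ring
    let j : (Scheme.Modules.pullback (p.fiberι y)).obj N ≅
        (Scheme.Modules.pullback ((p.fiberι y ≫ pullback.fst f T.hom) ≫ secSq f e he)).obj LΔ :=
      (Scheme.Modules.pullbackComp _ _).app _ ≪≫ (Scheme.Modules.pullbackComp _ _).app _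
    rw [CurveCoh17.deg_iso (M2.pullTensorIso (p.fiberι y) L N),
      hX.deg_tensor_invertible hLy (PicLoc.isInvertible_pullback _ hN), hd0, CurveCoh17.deg_iso j,
      deg_diag f hdim hLΔ hσΔ (isPullback_secSq_comp f e he h)]
    norm_num
  obtain ⟨U, htU, γ, hγ, hci, hE, σ, hs⟩ :=
    exists_point_nhd p (fun y => (hfib y).1) (fun y => (hfib y).2.1) hM (fun y => (hfib y).2.2) t
  let ψ : pullback p U.ι ≅ pullback f (U.ι ≫ T.hom) := pullbackLeftPullbackSndIso f T.hom U.ι
  let x : (U : Scheme.{u}) ⟶ C := γ ≫ pullback.fst p U.ι ≫ pullback.fst f T.hom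
  have hx : x ≫ f = U.ι ≫ T.hom := by
    simp only [x, Category.assoc]
    rw [show pullback.fst f T.hom ≫ f = p ≫ T.hom from pullback.condition,
      pullback.condition_assoc, reassoc_of% hγ]
  have hγψ : γ ≫ ψ.hom = graph f (U.ι ≫ T.hom) x hx := by
    apply pullback.hom_ext
    · simp [ψ, x, graph, p]
    · simp [ψ, x, graph, p]
      exact hγ
  haveI : IsClosedImmersion γ := hci
  have sq : IsPullback x γ (pullback.diagonal f) (ψ.hom ≫ toSq f (U.ι ≫ T.hom) x hx) := by
    have h1 : IsPullback (𝟙 (U : Scheme.{u})) γ (graph f (U.ι ≫ T.hom) x hx) ψ.hom :=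
      IsPullback.of_horiz_isIso ⟨by rw [Category.id_comp, hγψ]⟩
    have := h1.paste_horiz (isPullback_graph f (U.ι ≫ T.hom) x hx)
    rwa [Category.id_comp] at this
  have hmid : ψ.hom ≫ PicF.XTmap f (AbDual.ovrHom T U.ι) = pullback.fst p U.ι := by
    apply pullback.hom_ext
    · simp [ψ, PicF.XTmap, p]
    · simp [ψ, PicF.XTmap, p, pullback.condition]
  have hfst : PicF.XTmap f (AbDual.ovrHom T U.ι) ≫ pullback.fst f T.hom = pullback.fst f (U.ι ≫ T.hom) := by
    simp [PicF.XTmap]
  have e1 := (PicGrp.cls_mul_cls_eq_one_iff (PicLoc.isInvertible_pullback _ hLΔ) (M2.isInvertible_idealMod _ hE)).2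
    (nonempty_iso_of_locEq hE (PicLoc.isInvertible_pullback _ hLΔ) (hσΔ.pullback sq))
  have e2 := (PicGrp.cls_mul_cls_eq_one_iff (PicLoc.isInvertible_pullback _ hM) (M2.isInvertible_idealMod _ hE)).2
    (nonempty_iso_of_locEq hE (PicLoc.isInvertible_pullback _ hM) hs)
  let μ : pullback f (U.ι ≫ T.hom) ⟶ PicF.XT f T := PicF.XTmap f (AbDual.ovrHom T U.ι)
  have key : pc μ (PicGrp.cls M hM) = pc (toSq f (U.ι ≫ T.hom) x hx) (PicGrp.cls LΔ hLΔ) := by
    have h1 : pc ψ.hom (pc μ (PicGrp.cls M hM)) = pc ψ.hom (pc (toSq f (U.ι ≫ T.hom) x hx) (PicGrp.cls LΔ hLΔ)) := by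
      rw [pc_comp ψ.hom μ hmid, pc_comp _ _ (rfl : ψ.hom ≫ toSq f (U.ι ≫ T.hom) x hx = _), pc, PicGrp.pullHom_cls,
        PicGrp.pullHom_cls]
      exact mul_right_cancel (e2.trans e1.symm)
    have h2 := congrArg (pc ψ.inv) h1
    rwa [pc_comp ψ.inv ψ.hom ψ.inv_hom_id, pc_comp ψ.inv ψ.hom ψ.inv_hom_id, pc_id, pc_id] at h2
  refine ⟨U, htU, x, hx, ?_⟩
  show (pc μ (PicGrp.cls L hL)).1 = _
  refine congrArg Subtype.val ?_
  rw [pc_toSq_abelCls f hLΔ e he hI, ← key, ← AlgEquiv22.cls_tensor hL hN, map_mul, mul_assoc]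
  have hN1 : pc μ (PicGrp.cls N hN) * pc (pullback.fst f (U.ι ≫ T.hom)) (PicGrp.cls (ClSub.idealMod e.ker) hI) = 1 := by
    rw [show PicGrp.cls N hN = pc (pullback.fst f T.hom) (PicGrp.cls Le hLe) from (PicGrp.pullHom_cls _ _ _ _).symm,
      pc_comp μ (pullback.fst f T.hom) hfst, ← map_mul, hone, map_one]
  rw [hN1, mul_one]

end Groth.Agent.Abel10
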