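import Groth.Agent.Lib.ModLimH13.Sections
import Groth.Agent.Lib.CurveCoh17.IdealPow
import Groth.Agent.Lib.CurveCoh17.PairDeg
import Groth.Agent.Lib.CurveCoh17.Twist
import Groth.Agent.Lib.P1Split17.Basis
import Groth.Agent.Lib.Ample18.Gen
import Mathlib.AlgebraicGeometry.IdealSheaf.Functorial

/-!
# The canonical section of the inverse of the ideal of an effective Cartier divisor
-/

set_option autoImplicit false
set_option linter.style.haveILetI false
set_option linter.unusedSectionVars false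
set_option backward.isDefEq.respectTransparency false
set_option backward.isDefEq.respectTransparency.types false

universe u

open CategoryTheory CategoryTheory.Limits AlgebraicGeometry TopologicalSpace Opposite

noncomputable section

namespace Groth.Agent.Abel10

open Groth.Agent.ModLimH13

variable {X : Scheme.{u}} {L : X.Modules} {J : X.IdealSheafData}

/-- Locally `s` is an equation of `J` times a generator. -/
def LocEq (L : X.Modules) (J : X.IdealSheafData) (s : Γ(L, (⊤ : X.Opens))) : Prop :=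
  ∀ x : X, ∃ (W : X.affineOpens) (g : Γ(L, W.1)) (a : Γ(X, W.1)), x ∈ W.1 ∧ Twist.IsGen L W.1 g ∧
    J.ideal W = Ideal.span {a} ∧ M1.mres L (le_top : W.1 ≤ ⊤) s = a • g

theorem ideal_eq_span_res {W V : X.affineOpens} (h : V ≤ W) {a : Γ(X, W.1)} (hJ : J.ideal W = Ideal.span {a}) :
    J.ideal V = Ideal.span {X.presheaf.map (homOfLE (show V.1 ≤ W.1 from h)).op a} := by
  rw [← J.map_ideal h, hJ, Ideal.map_span, Set.image_singleton]
  rfl

/-- The canonical section. -/
theorem exists_locEq (hJ : BlowUp.IsEffCartierIdeal J) (hL : PicF.IsInvertible L)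
    (e : CohB1.tensorMod L (ClSub.idealMod J) ≅ Coh.structureModule X) :
    ∃ s : Γ(L, (⊤ : X.Opens)), LocEq L J s := by
  let I := ClSub.idealMod J
  have hI : PicF.IsInvertible I := M2.isInvertible_idealMod J hJ
  let μ : CohB1.tensorMod L I ⟶ L :=
    (M2.tensorComm L I).hom ≫ M2.tensorMap (ClSub.idealModι J) (𝟙 L) ≫ (M2.tensorLUnit L).hom
  refine ⟨μ.app ⊤ (e.inv.app ⊤ (M1.one ⊤)), fun x => ?_⟩
  obtain ⟨U, g₀, hxU, -, -, hg₀⟩ := Amp.exists_isGenerator hL (V := ⊤) (x := x) trivial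
  obtain ⟨W, i, hxW, hWU, hW, hi⟩ := Amp.exists_isGenerator hI hxU
  let g := M1.mres L hWU g₀
  have hg : Twist.IsGen L W g := Twist.IsGen.mres (hg₀ : Twist.IsGen L U g₀) hWU
  have ht : Twist.IsGen (CohB1.tensorMod L I) W (M2.tsec L I g i) := Twist.isGen_of_stalk fun z hz =>
    (Amp.gen_tsec_iff hL hI hz g i).2 ⟨hg.stalk hz, Twist.IsGen.stalk (M := I) (g := i) hi hz⟩
  obtain ⟨c, hc⟩ := (ht W le_rfl).2 (e.inv.app W (M1.one W))
  simp only [M1.mres_id] at hc
  have hu : IsUnit c := by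
    refine IsUnit.of_mul_eq_one (show Γ(X, W) from e.hom.app W (M2.tsec L I g i)) ?_
    have h1 : c • e.hom.app W (M2.tsec L I g i) = e.hom.app W (e.inv.app W (M1.one W)) :=
      (Scheme.Modules.Hom.app_smul e.hom c _).symm.trans (congrArg (e.hom.app W) hc)
    exact h1.trans (congrArg (fun φ => Scheme.Modules.Hom.app φ W (M1.one W)) e.inv_hom_id)
  let a : Γ(X, W) := c * M2.idealIncl J i
  refine ⟨⟨W, hW⟩, g, a, hxW, hg, ?_, ?_⟩
  · refine le_antisymm (fun b hb => ?_) ?_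
    · obtain ⟨b', rfl⟩ := (M2.range_idealIncl J ⟨W, hW⟩).ge hb
      obtain ⟨r, rfl⟩ := (hi W le_rfl).2 b'
      rw [Ideal.mem_span_singleton']
      obtain ⟨d, rfl⟩ := hu
      refine ⟨r * ↑d⁻¹, ?_⟩
      simp only [a]
      rw [show M2.res I le_rfl i = i from M2.res_self _ _ _, M2.idealIncl_smul, mul_assoc,
        Units.inv_mul_cancel_left]
    · rw [Ideal.span_le, Set.singleton_subset_iff]
      exact Ideal.mul_mem_left _ c ((M2.range_idealIncl J ⟨W, hW⟩).le ⟨i, rfl⟩)
  · have h1 : M1.mres L (le_top : W ≤ ⊤) (μ.app ⊤ (e.inv.app ⊤ (M1.one ⊤))) =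
        μ.app W (e.inv.app W (M1.one W)) := by
      rw [← M1.app_mres μ, ← M1.app_mres e.inv, M1.mres_one]
    rw [h1, ← hc, Scheme.Modules.Hom.app_smul]
    show c • μ.app W (M2.tsec L I g i) = _
    simp only [μ, Scheme.Modules.Hom.comp_app, CategoryTheory.comp_apply]
    rw [CurveCoh17.tensorComm_tsec, M2.tensorMap_tsec, CurveCoh17.tensorLUnit_tsec, smul_smul]
    rfl

/-- A module with a section whose local equations cut out `J` is inverse to the ideal of `J`. -/
theorem nonempty_iso_of_locEq (hJ : BlowUp.IsEffCartierIdeal J) (hL : PicF.IsInvertible L)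
    {s : Γ(L, (⊤ : X.Opens))} (hs : LocEq L J s) :
    Nonempty (CohB1.tensorMod L (ClSub.idealMod J) ≅ Coh.structureModule X) := by
  let I := ClSub.idealMod J
  have hI : PicF.IsInvertible I := M2.isInvertible_idealMod J hJ
  let T := CohB1.tensorMod L I
  let μ : T ⟶ L :=
    (M2.tensorComm L I).hom ≫ M2.tensorMap (ClSub.idealModι J) (𝟙 L) ≫ (M2.tensorLUnit L).hom
  haveI : Mono (M2.tensorMap (ClSub.idealModι J) (𝟙 L)) := (CurveCoh17.twistSES hL J).mono_f
  haveI : Mono μ := inferInstance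
  have key : ∀ x : X, ∃ (W : X.Opens) (τ : Γ(T, W)), x ∈ W ∧ μ.app W τ = M1.mres L (le_top : W ≤ ⊤) s ∧
      ∀ z (hz : z ∈ W), Amp.Gen (Amp.gm T z hz τ) := fun x => by
    obtain ⟨W, g, a, hxW, hg, hJW, hsW⟩ := hs x
    obtain ⟨W₁, i₀, hxW₁, hW₁W, hW₁, hi₀⟩ := Amp.exists_isGenerator hI hxW
    let W' : X.affineOpens := ⟨W₁, hW₁⟩
    let a' : Γ(X, W₁) := X.presheaf.map (homOfLE hW₁W).op a
    have hJ' : J.ideal W' = Ideal.span {a'} := ideal_eq_span_res (V := W') hW₁W hJW
    obtain ⟨i, hi⟩ := (M2.range_idealIncl J W').ge (hJ'.ge (Ideal.mem_span_singleton_self a') : a' ∈ J.ideal W')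
    obtain ⟨r, hr⟩ := (hi₀ W₁ le_rfl).2 i
    obtain ⟨r', hr'⟩ := Ideal.mem_span_singleton'.1
      (hJ'.le ((M2.range_idealIncl J W').le ⟨i₀, rfl⟩) : M2.idealIncl J i₀ ∈ Ideal.span {a'})
    simp only [M2.res_self] at hr
    have hu : IsUnit r := by
      refine IsUnit.of_mul_eq_one r' ((hi₀ W₁ le_rfl).1 ?_)
      simp only [M2.res_self, one_smul]
      refine M2.idealIncl_injective J W₁ ?_
      rw [M2.idealIncl_smul, mul_comm r, mul_assoc, ← M2.idealIncl_smul, hr, hi, hr']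
    refine ⟨W₁, M2.tsec L I (M1.mres L hW₁W g) i, hxW₁, ?_, fun z hz => (Amp.gen_tsec_iff hL hI hz _ _).2
      ⟨(hg.mres hW₁W).stalk hz, ?_⟩⟩
    · have h1 : M1.mres L (le_top : W₁ ≤ ⊤) s = a' • M1.mres L hW₁W g := by
        rw [← M1.mres_mres L (le_top : W.1 ≤ ⊤) hW₁W, hsW, M1.mres_smul]
      rw [h1]
      simp only [μ, Scheme.Modules.Hom.comp_app, CategoryTheory.comp_apply]
      rw [CurveCoh17.tensorComm_tsec, M2.tensorMap_tsec, CurveCoh17.tensorLUnit_tsec, ← hi]
      rfl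
    · rw [← hr, Amp.gm_smul]
      exact (Amp.Gen.ne_zero_smul (Twist.IsGen.stalk (M := I) (g := i₀) hi₀ hz) _).2
        (hu.map (X.presheaf.germ W₁ z hz).hom)
  choose W τ hxW hμ hgen using key
  obtain ⟨t, ht, -⟩ := TopCat.Sheaf.existsUnique_gluing' (⟨_, T.isSheaf⟩ : TopCat.Sheaf AddCommGrpCat X)
    W (⊤ : X.Opens) (fun x => homOfLE le_top) (fun x _ => Opens.mem_iSup.2 ⟨x, hxW x⟩) τ fun x y => by
      refine M1.app_injective μ (W x ⊓ W y) ?_
      show μ.app _ (M1.mres T inf_le_left (τ x)) = μ.app _ (M1.mres T inf_le_right (τ y))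
      rw [M1.app_mres, M1.app_mres, hμ, hμ, M1.mres_mres, M1.mres_mres]
  refine Twist.nonempty_iso_of_generator T t fun U => ?_
  refine (Twist.isGen_of_stalk (M := T) (U := ⊤) (g := t) fun z _ => ?_) U le_top
  have h2 := hgen z z (hxW z)
  rw [← ht z] at h2
  rwa [show Amp.gm T z (hxW z) (T.presheaf.map (homOfLE le_top).op t) = Amp.gm T z (U := ⊤) trivial t from
    Amp.gm_res le_top (hxW z) t] at h2

/-- A section with local equations vanishes on the subscheme. -/
theorem res'_eq_zero_of_le_ker {s : Γ(L, (⊤ : X.Opens))} (hs : LocEq L J s) {V : Scheme.{u}} (v : V ⟶ X)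
    (h : J ≤ v.ker) : res' v L (W := ⊤) (W' := ⊤) le_top s = 0 := by
  choose W g a hxW hg hJ hsW using hs
  refine TopCat.Sheaf.eq_of_locally_eq' (⟨_, ((Scheme.Modules.pullback v).obj L).isSheaf⟩ : TopCat.Sheaf AddCommGrpCat V)
    (fun y : V => v ⁻¹ᵁ (W (v y)).1) ⊤ (fun _ => homOfLE le_top)
    (fun y _ => Opens.mem_iSup.2 ⟨y, hxW (v y)⟩) _ 0 fun y => ?_
  rw [map_zero]
  show M1.mres _ le_top (res' v L (W := ⊤) (W' := ⊤) le_top s) = 0
  rw [mres_res', ← res'_mres v L (le_top : (W (v y)).1 ≤ ⊤) le_rfl s, hsW, res'_smul]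
  have ha : v.app (W (v y)).1 (a (v y)) = 0 :=
    RingHom.mem_ker.1 (Scheme.IdealSheafData.le_ofIdeals_iff.1 h (W (v y)) (by
      rw [hJ]; exact Ideal.mem_span_singleton_self _))
  rw [← Scheme.Hom.app_eq_appLE, ha]
  exact zero_smul _ _

/-- If the section pulls back to zero then the morphism lands in the subscheme. -/
theorem le_ker_of_res'_eq_zero {s : Γ(L, (⊤ : X.Opens))} (hs : LocEq L J s) {V : Scheme.{u}} (v : V ⟶ X)
    (h : res' v L (W := ⊤) (W' := ⊤) le_top s = 0) : J ≤ v.ker := by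
  refine Scheme.IdealSheafData.le_ofIdeals_iff.2 fun U b hb => RingHom.mem_ker.2 ?_
  choose W g a hxW hg hJ hsW using hs
  have hz : ∀ x, v.app (W x).1 (a x) = 0 := fun x => by
    have hgen := (hg x).pullback v
    refine (hgen (v ⁻¹ᵁ (W x).1) le_rfl).1 ?_
    show v.app (W x).1 (a x) • M1.mres _ le_rfl (M2.pullSec v L (g x)) = (0 : Γ(V, v ⁻¹ᵁ (W x).1)) • _
    rw [zero_smul, M1.mres_id, ← M2.pullSec_smul, ← hsW]
    calc M2.pullSec v L (M1.mres L (le_top : (W x).1 ≤ ⊤) s)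
        = res' v L (W := (W x).1) le_rfl (M1.mres L (le_top : (W x).1 ≤ ⊤) s) := (M1.mres_id _ _ _).symm
      _ = M1.mres _ le_top (res' v L (W := ⊤) (W' := ⊤) le_top s) := by rw [res'_mres, mres_res']
      _ = 0 := by rw [h]; exact map_zero _
  choose U' hU' hxU' hle using fun x : U.1 =>
    exists_isAffineOpen_mem_and_subset (x := x.1) (U := U.1 ⊓ (W x.1).1) ⟨x.2, hxW _⟩
  refine V.sheaf.eq_of_locally_eq' (fun x => v ⁻¹ᵁ U' x) (v ⁻¹ᵁ U.1)
    (fun x => homOfLE (v.preimage_mono ((hle x).trans inf_le_left)))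
    (fun y hy => Opens.mem_iSup.2 ⟨⟨v y, hy⟩, hxU' _⟩) _ 0 fun x => ?_
  rw [map_zero]
  show V.presheaf.map (homOfLE (v.preimage_mono ((hle x).trans inf_le_left))).op (v.app U.1 b) = 0
  have hb' : X.presheaf.map (homOfLE ((hle x).trans inf_le_left)).op b ∈ J.ideal ⟨U' x, hU' x⟩ := by
    rw [← J.map_ideal (U := ⟨U' x, hU' x⟩) (V := U) ((hle x).trans inf_le_left)]
    exact Ideal.mem_map_of_mem _ hb
  rw [ideal_eq_span_res (V := ⟨U' x, hU' x⟩) ((hle x).trans inf_le_right) (hJ x.1),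
    Ideal.mem_span_singleton'] at hb'
  obtain ⟨r, hr⟩ := hb'
  calc V.presheaf.map (homOfLE (v.preimage_mono ((hle x).trans inf_le_left))).op (v.app U.1 b)
      = v.app (U' x) (X.presheaf.map (homOfLE ((hle x).trans inf_le_left)).op b) :=
        (ConcreteCategory.congr_hom (v.naturality (homOfLE ((hle x).trans inf_le_left)).op) b).symm
    _ = v.app (U' x) r * V.presheaf.map (homOfLE (v.preimage_mono ((hle x).trans inf_le_right))).op
          (v.app (W x.1).1 (a x.1)) := by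
        rw [← hr, map_mul]
        exact congrArg (_ * ·) (ConcreteCategory.congr_hom (v.naturality (homOfLE ((hle x).trans inf_le_right)).op) (a x.1))
    _ = 0 := by rw [hz, map_zero, mul_zero]

/-- If the section pulls back to zero along `v`, then `v` factors through the subscheme. -/
theorem exists_factor {C : Scheme.{u}} (j : C ⟶ X) [IsClosedImmersion j] {s : Γ(L, (⊤ : X.Opens))}
    (hs : LocEq L j.ker s) {V : Scheme.{u}} (v : V ⟶ X) (h : res' v L (W := ⊤) (W' := ⊤) le_top s = 0) :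
    ∃ l : V ⟶ C, l ≫ j = v :=
  ⟨IsClosedImmersion.lift j v (le_ker_of_res'_eq_zero hs v h), IsClosedImmersion.lift_fac _ _ _⟩

/-- Away from the subscheme the section generates. -/
theorem gen_of_notMem {C : Scheme.{u}} (j : C ⟶ X) [IsClosedImmersion j] {s : Γ(L, (⊤ : X.Opens))}
    (hs : LocEq L j.ker s) {x : X} (hx : x ∉ Set.range j) : Amp.Gen (Amp.gm L x (U := ⊤) trivial s) := by
  obtain ⟨W, g, a, hxW, hg, hJ, hsW⟩ := hs x
  have h1 : IsUnit (X.presheaf.germ W.1 x hxW a) := by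
    rw [← Scheme.mem_basicOpen]
    by_contra hn
    refine hx ?_
    have : x ∈ (j.ker.support : Set X) := by
      rw [SetLike.mem_coe, Scheme.IdealSheafData.mem_support_iff_of_mem hxW, hJ, Scheme.zeroLocus_span,
        Scheme.mem_zeroLocus_iff]
      intro f hf
      rw [Set.mem_singleton_iff.1 hf]
      exact hn
    rwa [Scheme.Hom.support_ker, j.isClosedEmbedding.isClosed_range.closure_eq] at this
  have h2 : Amp.gm L x (U := ⊤) trivial s = X.presheaf.germ W.1 x hxW a • Amp.gm L x hxW g := by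
    rw [← Amp.gm_res (le_top : W.1 ≤ ⊤) hxW s, ← Amp.gm_smul, ← hsW]
  rw [h2]
  exact (Amp.Gen.ne_zero_smul (g := Amp.gm L x hxW g) (hg.stalk hxW) _).2 h1

/-- Local equations pull back, along cartesian squares. -/
theorem LocEq.pullback {C : Scheme.{u}} {j : C ⟶ X} [IsClosedImmersion j] {s : Γ(L, (⊤ : X.Opens))}
    (hs : LocEq L j.ker s) {X' C' : Scheme.{u}} {j' : C' ⟶ X'} {m : X' ⟶ X} {m' : C' ⟶ C} [IsClosedImmersion j']
    (h : IsPullback m' j' j m) :
    LocEq ((Scheme.Modules.pullback m).obj L) j'.ker (res' m L (W := ⊤) (W' := ⊤) le_top s) := fun z => by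
  obtain ⟨W, g, a, hzW, hg, hJ, hsW⟩ := hs (m z)
  obtain ⟨W', hW', hz', hle⟩ := exists_isAffineOpen_mem_and_subset (x := z) (U := m ⁻¹ᵁ W.1) hzW
  let a' : Γ(X', W') := m.appLE W.1 W' hle a
  refine ⟨⟨W', hW'⟩, res' m L hle g, a', hz', Twist.IsGen.mres (hg.pullback m) hle, ?_, ?_⟩
  · rw [j'.ker_apply]
    refine le_antisymm ?_ ?_
    · intro b hb
      let Q : CommRingCat.{u} := CommRingCat.of (Γ(X', W') ⧸ Ideal.span {a'})
      let q : Γ(X', W') ⟶ Q := CommRingCat.ofHom (Ideal.Quotient.mk _)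
      let w : Spec Q ⟶ X' := Spec.map q ≫ hW'.fromSpec
      have hw : ∀ y, w y ∈ W' := fun y => by
        rw [← SetLike.mem_coe, ← hW'.range_fromSpec]
        exact ⟨Spec.map q y, rfl⟩
      have eW : (⊤ : (Spec Q).Opens) ≤ w ⁻¹ᵁ W' := fun y _ => hw y
      have happ : w.appLE W' ⊤ eW = q ≫ (Scheme.ΓSpecIso Q).inv := by
        rw [← Scheme.Hom.appLE_comp_appLE (Spec.map q) hW'.fromSpec W' ⊤ ⊤
          (by rw [hW'.fromSpec_preimage_self]) le_top]
        have h1 : hW'.fromSpec.appLE W' ⊤ (by rw [hW'.fromSpec_preimage_self]) = (Scheme.ΓSpecIso Γ(X', W')).inv := by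
          rw [Scheme.Hom.appLE, hW'.fromSpec_app_self, Category.assoc, ← Functor.map_comp]
          simp
        have h2 : (Spec.map q).appLE ⊤ ⊤ le_top = (Spec.map q).appTop := by
          rw [Scheme.Hom.appTop, Scheme.Hom.app_eq_appLE]
          rfl
        rw [h1, h2, ← Scheme.ΓSpecIso_inv_naturality]
      have hwa : (w ≫ m).appLE W.1 ⊤ (fun y _ => hle (hw y)) a = 0 := by
        rw [← Scheme.Hom.appLE_comp_appLE w m W.1 W' ⊤ hle eW]
        show w.appLE W' ⊤ eW a' = 0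
        rw [happ]
        show (Scheme.ΓSpecIso Q).inv (Ideal.Quotient.mk _ a') = 0
        rw [Ideal.Quotient.eq_zero_iff_mem.2 (Ideal.mem_span_singleton_self a')]
        exact map_zero _
      have hv : res' (w ≫ m) L (W := ⊤) (W' := ⊤) le_top s = 0 := by
        rw [← res'_mres (w ≫ m) L (le_top : W.1 ≤ ⊤) (fun y _ => hle (hw y) : (⊤ : (Spec Q).Opens) ≤ _) s, hsW,
          res'_smul, hwa]
        exact zero_smul _ _
      obtain ⟨l, hl⟩ := exists_factor j hs (w ≫ m) hv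
      let l' : Spec Q ⟶ C' := h.lift l w hl
      have hl' : l' ≫ j' = w := h.lift_snd _ _ _
      have hb0 : w.appLE W' ⊤ eW b = 0 := by
        have e3 : (⊤ : (Spec Q).Opens) ≤ l' ⁻¹ᵁ (j' ⁻¹ᵁ W') := by
          rw [← Scheme.Hom.comp_preimage, hl']
          exact eW
        have h4 := ConcreteCategory.congr_hom (Scheme.Hom.appLE_comp_appLE l' j' W' (j' ⁻¹ᵁ W') ⊤ le_rfl e3) b
        rw [CommRingCat.comp_apply, ← Scheme.Hom.app_eq_appLE, RingHom.mem_ker.1 hb, map_zero] at h4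
        simp only [hl'] at h4
        exact h4.symm
      rw [happ] at hb0
      exact Ideal.Quotient.eq_zero_iff_mem.1
        ((Scheme.ΓSpecIso Q).commRingCatIsoToRingEquiv.symm.injective (hb0.trans (map_zero _).symm))
    · rw [Ideal.span_le, Set.singleton_subset_iff]
      show j'.app W' a' = 0
      have h1 : j.app W.1 a = 0 := by
        have := j.ker_apply W
        rw [hJ] at this
        exact RingHom.mem_ker.1 (this ▸ Ideal.mem_span_singleton_self a)
      have e2 : j' ⁻¹ᵁ W' ≤ m' ⁻¹ᵁ (j ⁻¹ᵁ W.1) := by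
        rw [← Scheme.Hom.comp_preimage, h.w]
        exact j'.preimage_mono hle
      have h3 : (j' ≫ m).appLE W.1 (j' ⁻¹ᵁ W') (j'.preimage_mono hle) a = j'.app W' a' := by
        rw [← Scheme.Hom.appLE_comp_appLE j' m W.1 W' _ hle le_rfl, ← Scheme.Hom.app_eq_appLE]
        rfl
      rw [← h3]
      have h5 : (m' ≫ j).appLE W.1 (j' ⁻¹ᵁ W') e2 a = 0 := by
        rw [← Scheme.Hom.appLE_comp_appLE m' j W.1 (j ⁻¹ᵁ W.1) _ le_rfl e2, CommRingCat.comp_apply,
          ← Scheme.Hom.app_eq_appLE, h1, map_zero]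
      simp only [h.w] at h5
      exact h5
  · rw [mres_res', ← res'_mres m L (le_top : W.1 ≤ ⊤) hle s, hsW, res'_smul]

end Groth.Agent.Abel10
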