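import Groth.Agent.Lib.Abel10.PushGen
import Groth.Agent.Lib.Abel10.Fibre
import Groth.Agent.Lib.CBC10.FieldBC
import Groth.Agent.Lib.CurveLocus.GeomFibre
import Groth.Agent.Lib.Twist.Pullback
import Groth.Agent.Lib.TensorMod.PullTensor

/-!
# The graphs of two points with the same divisor class coincide
-/

set_option autoImplicit false
set_option linter.style.haveILetI false
set_option maxHeartbeats 1000000
set_option linter.unusedSectionVars false
set_option backward.isDefEq.respectTransparency false
set_option backward.isDefEq.respectTransparency.types false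

universe u

open CategoryTheory CategoryTheory.Limits AlgebraicGeometry TopologicalSpace Opposite

noncomputable section

namespace Groth.Agent.Abel10

open Groth.Agent.ModLimH13

variable {C S T : Scheme.{u}} (f : C ⟶ S) (t : T ⟶ S)

/-- The graph of a point. -/
def graph (x : T ⟶ C) (hx : x ≫ f = t) : T ⟶ pullback f t := pullback.lift x (𝟙 T) (by rw [hx, Category.id_comp])

theorem graph_snd (x : T ⟶ C) (hx : x ≫ f = t) : graph f t x hx ≫ pullback.snd f t = 𝟙 T := pullback.lift_snd _ _ _

/-- The map to the square over a point. -/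
def toSq (x : T ⟶ C) (hx : x ≫ f = t) : pullback f t ⟶ pullback f f :=
  pullback.lift (pullback.fst f t) (pullback.snd f t ≫ x) (by rw [Category.assoc, hx, pullback.condition])

theorem isPullback_toSq (x : T ⟶ C) (hx : x ≫ f = t) :
    IsPullback (toSq f t x hx) (pullback.snd f t) (pullback.snd f f) x := by
  refine IsPullback.of_right ?_ (pullback.lift_snd _ _ _) (IsPullback.of_hasPullback f f)
  rw [hx, toSq, pullback.lift_fst]
  exact IsPullback.of_hasPullback f t

theorem isPullback_graph (x : T ⟶ C) (hx : x ≫ f = t) :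
    IsPullback x (graph f t x hx) (pullback.diagonal f) (toSq f t x hx) := by
  refine IsPullback.of_bot ?_ ?_ (isPullback_toSq f t x hx)
  · rw [graph_snd, pullback.diagonal_snd]
    exact IsPullback.of_vert_isIso ⟨by simp⟩
  · apply pullback.hom_ext <;> simp [graph, toSq]
    exact (Category.id_comp x).symm

section Fibre

variable [IsProper f] [Smooth f] [GeometricallyConnected f]

/-- The dimension of the fibres of a base change. -/
theorem topologicalKrullDim_fiber_snd (hdim : ∀ s : S, topologicalKrullDim ↥(f.fiber s) = 1) (y : T) :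
    topologicalKrullDim ↥((pullback.snd f t).fiber y) = 1 := by
  have h0 : IsPullback ((pullback.snd f t).fiberι y ≫ pullback.fst f t) ((pullback.snd f t).fiberToSpecResidueField y) f
      (T.fromSpecResidueField y ≫ t) :=
    (IsPullback.of_hasPullback (pullback.snd f t) (T.fromSpecResidueField y)).paste_horiz (IsPullback.of_hasPullback f t)
  rw [← Scheme.Hom.SpecMap_residueFieldMap_fromSpecResidueField] at h0
  have hs : IsPullback (f.fiberι (t y)) (f.fiberToSpecResidueField (t y)) f (S.fromSpecResidueField (t y)) :=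
    IsPullback.of_hasPullback _ _
  let pr := hs.lift ((pullback.snd f t).fiberι y ≫ pullback.fst f t)
    ((pullback.snd f t).fiberToSpecResidueField y ≫ Spec.map (t.residueFieldMap y)) (by rw [h0.w, Category.assoc])
  have hsq : IsPullback pr ((pullback.snd f t).fiberToSpecResidueField y) (f.fiberToSpecResidueField (t y))
      (Spec.map (t.residueFieldMap y)) :=
    IsPullback.of_right (by rw [hs.lift_fst]; exact h0) (hs.lift_snd _ _ _) hs
  haveI : LocallyOfFiniteType (f.fiberToSpecResidueField (t y)) :=
    MorphismProperty.of_isPullback (P := @LocallyOfFiniteType) hs inferInstance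
  exact (CurveLocus.topologicalKrullDim_bc (f.fiberToSpecResidueField (t y)) hsq).trans (hdim _)

/-- The genus of the fibres of a base change. -/
theorem genus_fiber_snd (y : T) :
    letI : ((pullback.snd f t).fiber y).Over (Spec (CommRingCat.of (T.residueField y))) :=
      ⟨(pullback.snd f t).fiberToSpecResidueField y⟩
    Curv2.genus (T.residueField y) ((pullback.snd f t).fiber y) =
      CohIII.fiberRank f (Coh.structureModule C) 1 (t y) := by
  letI : ((pullback.snd f t).fiber y).Over (Spec (CommRingCat.of (T.residueField y))) :=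
    ⟨(pullback.snd f t).fiberToSpecResidueField y⟩
  let O := Coh.structureModule C
  haveI hq : Coh.IsQCoh O := M1.isQCoh_structureModule C
  obtain ⟨V, -, M, hyV⟩ := CBC10.exists_model_at f O CurveR1_10.isFP_structure (CurveR1_10.isFlatOver_structure f)
    (U := ⊤) (s := t y) trivial
  let φ := S.evaluation V (t y) hyV ≫ t.residueFieldMap y
  letI : Algebra Γ(S, V) (T.residueField y) := φ.hom.toAlgebra
  have h : IsPullback ((pullback.snd f t).fiberι y ≫ pullback.fst f t) ((pullback.snd f t).fiberToSpecResidueField y) f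
      (T.fromSpecResidueField y ≫ t) :=
    (IsPullback.of_hasPullback (pullback.snd f t) (T.fromSpecResidueField y)).paste_horiz (IsPullback.of_hasPullback f t)
  have hφ : T.fromSpecResidueField y ≫ t =
      Spec.map (CommRingCat.ofHom (algebraMap Γ(S, V) (T.residueField y))) ≫ M.isAffine.fromSpec := by
    rw [← Scheme.Hom.SpecMap_residueFieldMap_fromSpecResidueField, CBC10.fromSpecResidueField_eq (hU := M.isAffine) hyV,
      ← Category.assoc, ← Spec.map_comp]
    rfl
  rw [hφ] at h
  have key := M.computes.finrank_bc_field hq (B := T.residueField y) (X' := (pullback.snd f t).fiber y)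
    (g := (pullback.snd f t).fiberι y ≫ pullback.fst f t) h 1
  refine (((CBC10.hmapLinEquiv (T.residueField y) (Twist.pullbackUnitIso
    ((pullback.snd f t).fiberι y ≫ pullback.fst f t)).symm 1).finrank_eq).trans key).trans ?_
  rw [M.fiberRank_eq hq 1 ⟨t y, hyV⟩]
  congr 1
  refine Eq.trans ?_ (CBC10.comap_evaluation (hU := M.isAffine) hyV)
  show PrimeSpectrum.comap ((t.residueFieldMap y).hom.comp (S.evaluation V (t y) hyV).hom) _ = _
  rw [PrimeSpectrum.comap_comp_apply]
  congr 1
  exact PrimeSpectrum.ext ((RingHom.injective_iff_ker_eq_bot _).1 (RingHom.injective _))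

/-- On the fibres of a base change the canonical section spans. -/
theorem bijective_fibre (hdim : ∀ s : S, topologicalKrullDim ↥(f.fiber s) = 1)
    (hg : ∀ s : S, 1 ≤ CohIII.fiberRank f (Coh.structureModule C) 1 s)
    (γ : T ⟶ pullback f t) (hγ : γ ≫ pullback.snd f t = 𝟙 T) [IsClosedImmersion γ] {L : (pullback f t).Modules}
    (hL : PicF.IsInvertible L) {σ : Γ(L, (⊤ : (pullback f t).Opens))} (hs : LocEq L γ.ker σ) (y : T) :
    Function.Bijective fun c : Γ(Spec (T.residueField y), ⊤) =>
      ((pullback.snd f t).fiberToSpecResidueField y).appTop c •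
        res' ((pullback.snd f t).fiberι y) L (W := ⊤) (W' := ⊤) le_top σ := by
  let p := pullback.snd f t
  have sq : IsPullback (p.fiberι y) (p.fiberToSpecResidueField y) p (T.fromSpecResidueField y) :=
    IsPullback.of_hasPullback _ _
  let q : Spec (T.residueField y) ⟶ p.fiber y := sq.lift (T.fromSpecResidueField y ≫ γ) (𝟙 _)
    (by rw [Category.assoc, hγ, Category.comp_id, Category.id_comp])
  have hq : q ≫ p.fiberToSpecResidueField y = 𝟙 _ := sq.lift_snd _ _ _
  have sqγ : IsPullback (T.fromSpecResidueField y) q γ (p.fiberι y) := by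
    refine IsPullback.of_bot ?_ (sq.lift_fst _ _ _).symm sq
    rw [hq, hγ]
    exact IsPullback.of_vert_isIso ⟨by simp⟩
  haveI : IsClosedImmersion q := MorphismProperty.of_isPullback (P := @IsClosedImmersion) sqγ inferInstance
  haveI : IsProper (p.fiberToSpecResidueField y) := MorphismProperty.of_isPullback (P := @IsProper) sq inferInstance
  haveI : Smooth (p.fiberToSpecResidueField y) := MorphismProperty.of_isPullback (P := @Smooth) sq inferInstance
  haveI : GeometricallyConnected (p.fiberToSpecResidueField y) :=
    MorphismProperty.of_isPullback (P := @GeometricallyConnected) sq inferInstance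
  exact bijective_smul_section (p.fiberToSpecResidueField y) (topologicalKrullDim_fiber_snd f t hdim y)
    ((hg (t y)).trans_eq (genus_fiber_snd f t y).symm) q hq (PicLoc.isInvertible_pullback _ hL)
    (hs.pullback sqγ)

end Fibre

/-- Two points with isomorphic divisor classes are equal. -/
theorem eq_of_iso [IsProper f] [Smooth f] [GeometricallyConnected f]
    (hdim : ∀ s : S, topologicalKrullDim ↥(f.fiber s) = 1)
    (hg : ∀ s : S, 1 ≤ CohIII.fiberRank f (Coh.structureModule C) 1 s)
    {L : (pullback f f).Modules} (hL : PicF.IsInvertible L) {s : Γ(L, (⊤ : (pullback f f).Opens))}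
    (hs : LocEq L (pullback.diagonal f).ker s) (x y : T ⟶ C) (hx : x ≫ f = t) (hy : y ≫ f = t)
    (e : (Scheme.Modules.pullback (toSq f t x hx)).obj L ≅ (Scheme.Modules.pullback (toSq f t y hy)).obj L) :
    x = y := by
  let p := pullback.snd f t
  let γx := graph f t x hx
  let γy := graph f t y hy
  haveI : IsClosedImmersion γx := MorphismProperty.of_isPullback (P := @IsClosedImmersion) (isPullback_graph f t x hx) inferInstance
  haveI : IsClosedImmersion γy := MorphismProperty.of_isPullback (P := @IsClosedImmersion) (isPullback_graph f t y hy) inferInstance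
  let Lx := (Scheme.Modules.pullback (toSq f t x hx)).obj L
  let Ly := (Scheme.Modules.pullback (toSq f t y hy)).obj L
  let sx : Γ(Lx, (⊤ : (pullback f t).Opens)) := res' (toSq f t x hx) L (W := ⊤) (W' := ⊤) le_top s
  let sy : Γ(Ly, (⊤ : (pullback f t).Opens)) := res' (toSq f t y hy) L (W := ⊤) (W' := ⊤) le_top s
  have hsx : LocEq Lx γx.ker sx := hs.pullback (isPullback_graph f t x hx)
  have hsy : LocEq Ly γy.ker sy := hs.pullback (isPullback_graph f t y hy)
  haveI : IsProper p := inferInstanceAs (IsProper (pullback.snd f t))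
  haveI : Smooth p := inferInstanceAs (Smooth (pullback.snd f t))
  have hzy : res' γy Ly (W := ⊤) (W' := ⊤) le_top sy = 0 := res'_eq_zero_of_le_ker hsy γy le_rfl
  have key : res' γy Ly (W := ⊤) (W' := ⊤) le_top (e.hom.app ⊤ sx) = 0 := by
    choose U hU hsurj using fun z : T => exists_nhd_surjective_smul p (PicLoc.isInvertible_pullback _ hL) sy z
      (bijective_fibre f t hdim hg γy (graph_snd f t y hy) (PicLoc.isInvertible_pullback _ hL) hsy z)
    refine TopCat.Sheaf.eq_of_locally_eq' (⟨_, ((Scheme.Modules.pullback γy).obj Ly).isSheaf⟩ : TopCat.Sheaf AddCommGrpCat T)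
      U ⊤ (fun _ => homOfLE le_top) (fun z _ => Opens.mem_iSup.2 ⟨z, hU z⟩) _ 0 fun z => ?_
    rw [map_zero]
    show M1.mres _ le_top (res' γy Ly (W := ⊤) (W' := ⊤) le_top (e.hom.app ⊤ sx)) = 0
    have eU : U z ≤ γy ⁻¹ᵁ (p ⁻¹ᵁ U z) := by
      rw [← Scheme.Hom.comp_preimage, graph_snd]
      exact le_rfl
    obtain ⟨d, hd⟩ := hsurj z (M1.mres Ly (le_top : p ⁻¹ᵁ U z ≤ ⊤) (e.hom.app ⊤ sx))
    rw [mres_res', ← res'_mres γy Ly (le_top : p ⁻¹ᵁ U z ≤ ⊤) eU (e.hom.app ⊤ sx), ← hd, res'_smul, res'_mres,
      ← mres_res' γy Ly (e := le_top) (le_top : U z ≤ ⊤), hzy, map_zero, smul_zero]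
  have hzx : res' γy Lx (W := ⊤) (W' := ⊤) le_top sx = 0 := by
    have h1 := map_res' γy Ly (W := ⊤) (W' := ⊤) le_top e.inv (e.hom.app ⊤ sx)
    rw [key, map_zero] at h1
    rwa [show e.inv.app ⊤ (e.hom.app ⊤ sx) = sx from
      congrArg (fun φ => Scheme.Modules.Hom.app φ ⊤ sx) e.hom_inv_id, eq_comm] at h1
  obtain ⟨l, hl⟩ := exists_factor γx hsx γy hzx
  have hl1 : l = 𝟙 T := by
    have h2 := congrArg (· ≫ pullback.snd f t) hl
    simpa [γx, γy, graph] using h2
  rw [hl1, Category.id_comp] at hl
  simpa [γx, γy, graph] using congrArg (· ≫ pullback.fst f t) hl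

end Groth.Agent.Abel10
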