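import Groth.Agent.Lib.CurveR1_10.Basic

/-!
# Generators of the direct image of an invertible module

If a section of an invertible module spans the sections on one fibre freely, then it spans the direct image
near that point.
-/

set_option autoImplicit false
set_option linter.style.haveILetI false
set_option maxHeartbeats 1000000
set_option backward.isDefEq.respectTransparency false
set_option backward.isDefEq.respectTransparency.types false

universe u

open CategoryTheory CategoryTheory.Limits AlgebraicGeometry TopologicalSpace Opposite Groth.Agent.ModLimH13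

noncomputable section

namespace Groth.Agent.Abel10

open Groth.Agent.M1 Groth.Agent.P1Split Groth.Agent.CBC10

variable {X S : Scheme.{u}} (f : X ⟶ S) [IsProper f] [Flat f] [LocallyOfFinitePresentation f]

/-- Near a point where a section spans the sections on the fibre freely it spans the direct image. -/
theorem exists_nhd_surjective_smul {L : X.Modules} (hL : PicF.IsInvertible L) (σ : Γ(L, (⊤ : X.Opens))) (s : S)
    (hsec : Function.Bijective fun c : Γ(Spec (S.residueField s), ⊤) =>
      (f.fiberToSpecResidueField s).appTop c • res' (f.fiberι s) L (W := ⊤) (W' := ⊤) le_top σ) :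
    ∃ U : S.Opens, s ∈ U ∧ Function.Surjective fun c : Γ(S, U) =>
      f.app U c • M1.mres L (le_top : f ⁻¹ᵁ U ≤ ⊤) σ := by
  haveI : HasInjectiveResolutions X.Modules := CohFound.hasInjectiveResolutions_modules X
  have hlfL := M2.isFinLocFree_of_isInvertible hL
  haveI hLq : Coh.IsQCoh L := M2.isQCoh_of_isFinLocFree hlfL
  have hfp : CohB1.IsFP L := M1.isFP_of_isFinLocFree hlfL
  have hfl : FlatMod.IsFlatOver f L := DPerf.isFlatOver_of_isFlat f (KFlat.Sch.isFlat_of_isFinLocFree hlfL)
  have h : IsPullback (f.fiberι s) (f.fiberToSpecResidueField s) f (S.fromSpecResidueField s) :=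
    IsPullback.of_hasPullback _ _
  let g := S.fromSpecResidueField s
  let f' := f.fiberToSpecResidueField s
  let ι := f.fiberι s
  let pF := (Scheme.Modules.pushforward f).obj L
  let T := (Scheme.Modules.pushforward f').obj ((Scheme.Modules.pullback ι).obj L)
  let β := CohBC.bc0 f g f' ι h.w L
  haveI : Subsingleton (Spec (S.residueField s)) := inferInstanceAs (Subsingleton (PrimeSpectrum (S.residueField s)))
  have eTop : ∀ {V : S.Opens}, s ∈ V → (⊤ : (Spec (S.residueField s)).Opens) ≤ g ⁻¹ᵁ V := fun {V} hV z _ => by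
    show g z ∈ V
    rw [S.fromSpecResidueField_apply]
    exact hV
  let u : Γ(T, ⊤) := res' ι L (W := ⊤) (W' := ⊤) le_top σ
  have hu : Function.Bijective fun c : Γ(Spec (S.residueField s), ⊤) => c • u := hsec
  have hone : ∀ {V : S.Opens} (hV : s ∈ V),
      β.app ⊤ (res' g pF (eTop hV) (show Γ(pF, V) from M1.mres L (le_top : f ⁻¹ᵁ V ≤ ⊤) σ)) = u := by
    intro V hV
    rw [CBC10.bc0_res']
    exact res'_mres ι L le_top _ σ
  have hepi : Epi β := by
    rw [CBC10.epi_iff_surjective_top]
    intro z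
    obtain ⟨c, rfl⟩ := hu.2 z
    have e0 : (⊤ : (Spec (S.residueField s)).Opens) ≤ g ⁻¹ᵁ ⊤ := le_of_eq rfl
    refine ⟨c • res' g pF e0 (show Γ(pF, ⊤) from M1.mres L (le_top : f ⁻¹ᵁ ⊤ ≤ ⊤) σ), ?_⟩
    rw [Scheme.Modules.Hom.app_smul]
    exact congrArg (c • ·) (hone (V := ⊤) trivial)
  obtain ⟨V₀, -, M₀, hsV₀⟩ := CBC10.exists_model_at f L hfp hfl (U := ⊤) (s := s) trivial
  obtain ⟨V', -, M', hsV', hflat⟩ := CBC10.exists_flat_model M₀ hsV₀ [-1] (by
    simpa using (M₀.epi_fibre0_iff hsV₀).1 hepi)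
  haveI hβ : IsIso β := CBC10.isIso_bc0 h L fun z => ⟨V', M', eTop hsV' (Opens.mem_top z), hflat _ (by simp)⟩
  have hlf : FlatMod.IsFinLocFree (pF.restrict V'.ι) :=
    CBC10.isFinLocFree_push_restrict V' fun t ht => ⟨V', M', ht, le_rfl, hflat _ (by simp)⟩
  obtain ⟨n, D₀, e₀, hsD₀, he₀⟩ := PushUnit3.exists_isBas_nhd' hlf ⟨s, hsV'⟩
  let D := V'.ι ''ᵁ D₀
  let E : Fin n → Γ(pF, D) := fun i => e₀ i
  have he : IsBas pF D E := isBas_of_restrict V'.ι pF he₀
  have hsD : s ∈ D := ⟨⟨s, hsV'⟩, hsD₀, rfl⟩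
  obtain ⟨a, ha⟩ := (he D le_rfl).2 (show Γ(pF, D) from M1.mres L (le_top : f ⁻¹ᵁ D ≤ ⊤) σ)
  simp only [mres_id] at ha
  let K := Γ(Spec (S.residueField s), ⊤)
  haveI : Nontrivial K := (Scheme.ΓSpecIso (S.residueField s)).inv.hom.injective.nontrivial
  let ā : Fin n → K := fun i => g.appLE D ⊤ (eTop hsD) (a i)
  let b : Fin n → Γ(T, ⊤) := fun i => β.app ⊤ (res' g pF (eTop hsD) (E i))
  have hb : Function.Bijective fun c : Fin n → K => ∑ i, c i • b i := by
    have h1 := AmpleFin18.isBas_pullback g he ⊤ (eTop hsD)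
    have h2 := ConcreteCategory.bijective_of_isIso (β.app ⊤)
    have heq : (fun c : Fin n → K => ∑ i, c i • b i) =
        β.app ⊤ ∘ fun c : Fin n → K => ∑ i, c i • M1.mres _ (eTop hsD) (M2.pullSec g pF (E i)) := by
      funext c
      simp only [Function.comp_apply, map_sum]
      exact Finset.sum_congr rfl fun i _ => (Scheme.Modules.Hom.app_smul β _ _).symm
    rw [heq]
    exact h2.comp h1
  have hab : ∑ i, ā i • b i = u := by
    rw [← hone hsD, ← ha]
    have hsum : res' g pF (eTop hsD) (∑ i, a i • E i) = ∑ i, ā i • res' g pF (eTop hsD) (E i) := by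
      let φ : Γ(pF, D) →+ Γ((Scheme.Modules.pullback g).obj pF, ⊤) :=
        AddMonoidHom.mk' (res' g pF (eTop hsD)) (res'_add g pF (eTop hsD))
      show φ _ = _
      rw [map_sum]
      exact Finset.sum_congr rfl fun i _ => res'_smul g pF (eTop hsD) (a i) (E i)
    rw [hsum, map_sum]
    exact Finset.sum_congr rfl fun i _ => (Scheme.Modules.Hom.app_smul β _ _).symm
  obtain ⟨hn, hunit⟩ := LiftFib11.isUnit_coord b hb u hu ā hab
  subst hn
  have hunit' : IsUnit (S.presheaf.germ D s hsD (a 0)) := by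
    let z : Spec (S.residueField s) := IsLocalRing.closedPoint (S.residueField s)
    have hz : g z = s := S.fromSpecResidueField_apply s z
    have hzD : g z ∈ D := hz.symm ▸ hsD
    have h3 : IsUnit (S.presheaf.germ D (g z) hzD (a 0)) := by
      refine isUnit_of_map_unit (g.stalkMap z).hom _ ?_
      rw [Scheme.Hom.germ_stalkMap_apply g D z hzD (a 0)]
      have h4 := hunit.map ((Spec (S.residueField s)).presheaf.germ ⊤ z trivial).hom
      simp only [ā, Scheme.Hom.appLE, CommRingCat.comp_apply] at h4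
      rwa [TopCat.Presheaf.germ_res_apply] at h4
    rw [← Scheme.mem_basicOpen] at h3 ⊢
    rwa [hz] at h3
  refine ⟨S.basicOpen (a 0), by rwa [Scheme.mem_basicOpen], fun m => ?_⟩
  let U : S.Opens := S.basicOpen (a 0)
  have hVD : U ≤ D := S.basicOpen_le _
  have ha0 : IsUnit (ores hVD (a 0)) := RingedSpace.isUnit_res_basicOpen S.toRingedSpace (a 0)
  obtain ⟨v, hv⟩ := ha0
  obtain ⟨d, hd⟩ := (he U hVD).2 (show Γ(pF, U) from m)
  have h1 : (∑ i, ores hVD (a i) • M1.mres pF hVD (E i)) = (show Γ(pF, U) from M1.mres L le_top σ) := by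
    rw [← mres_sum_smul, ha]
    exact M1.mres_mres L _ _ σ
  refine ⟨d 0 * ↑v⁻¹, ?_⟩
  show (d 0 * ↑v⁻¹) • (show Γ(pF, U) from M1.mres L le_top σ) = (show Γ(pF, U) from m)
  simp only [Fin.sum_univ_one] at h1 hd
  rw [← h1, ← hd, ← hv, smul_smul, mul_assoc, Units.inv_mul, mul_one]

end Groth.Agent.Abel10
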