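import Groth.Agent.Lib.Abel10.LocEq
import Groth.Agent.Lib.SecDiv18.Basic
import Groth.Agent.Lib.CurveCoh17.Section
import Groth.Prelude.Def_CurvBase

/-!
# The zero divisor of a section of an invertible module
-/

set_option autoImplicit false
set_option linter.style.haveILetI false
set_option linter.unusedSectionVars false
set_option backward.isDefEq.respectTransparency false
set_option backward.isDefEq.respectTransparency.types false

universe u

open CategoryTheory CategoryTheory.Limits AlgebraicGeometry TopologicalSpace Opposite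

noncomputable section

namespace Groth.Agent.Abel10

open Groth.Agent.ModLimH13

variable {X : Scheme.{u}} {L : X.Modules} {J : X.IdealSheafData}

theorem exists_locEq_ideal (hL : PicF.IsInvertible L) (σ : Γ(L, (⊤ : X.Opens))) :
    ∃ J : X.IdealSheafData, LocEq L J σ := by
  obtain ⟨D, hD, ⟨e⟩⟩ := M2.exists_inverse hL
  haveI := M2.isQCoh_of_isFinLocFree (M2.isFinLocFree_of_isInvertible hD)
  let φ : D ⟶ Coh.structureModule X :=
    (M2.tensorLUnit D).inv ≫ M2.tensorMap (M1.secHom σ) (𝟙 D) ≫ e.hom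
  refine ⟨SecDiv.ofMono φ, fun x => ?_⟩
  obtain ⟨U, g₀, hxU, -, -, hg₀⟩ := Amp.exists_isGenerator hL (V := ⊤) (x := x) trivial
  obtain ⟨W, g', hxW, hWU, hW, hg'⟩ := Amp.exists_isGenerator hD hxU
  let g := M1.mres L hWU g₀
  have hg : Twist.IsGen L W g := Twist.IsGen.mres (hg₀ : Twist.IsGen L U g₀) hWU
  obtain ⟨a, ha⟩ := (hg W le_rfl).2 (M1.mres L (le_top : W ≤ ⊤) σ)
  simp only [M1.mres_id] at ha
  have ht : Twist.IsGen (CohB1.tensorMod L D) W (M2.tsec L D g g') := Twist.isGen_of_stalk fun z hz =>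
    (Amp.gen_tsec_iff hL hD hz g g').2 ⟨hg.stalk hz, Twist.IsGen.stalk (M := D) (g := g') hg' hz⟩
  obtain ⟨c, hc⟩ := (ht W le_rfl).2 (e.inv.app W (M1.one W))
  simp only [M1.mres_id] at hc
  let v : Γ(X, W) := e.hom.app W (M2.tsec L D g g')
  have hu : IsUnit v := by
    refine IsUnit.of_mul_eq_one_right c ?_
    have h1 : c • e.hom.app W (M2.tsec L D g g') = e.hom.app W (e.inv.app W (M1.one W)) :=
      (Scheme.Modules.Hom.app_smul e.hom c _).symm.trans (congrArg (e.hom.app W) hc)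
    exact h1.trans (congrArg (fun φ => Scheme.Modules.Hom.app φ W (M1.one W)) e.inv_hom_id)
  have h0 : (M2.tensorLUnit D).inv.app W g' = M2.tsec (Coh.structureModule X) D (M1.one W) g' := by
    refine (ConcreteCategory.bijective_of_isIso ((M2.tensorLUnit D).hom.app W)).1 ?_
    rw [CurveCoh17.tensorLUnit_tsec]
    exact (congrArg (fun ψ => Scheme.Modules.Hom.app ψ W g') (M2.tensorLUnit D).inv_hom_id).trans (one_smul Γ(X, W) g').symm
  have hφ : (show Γ(X, W) from φ.app W g') = a * v := by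
    simp only [φ, Scheme.Modules.Hom.comp_app, CategoryTheory.comp_apply]
    rw [h0, M2.tensorMap_tsec, Twist.secHom_app]
    show e.hom.app W (M2.tsec L D ((1 : Γ(X, W)) • M1.mres L le_top σ) g') = _
    rw [one_smul, ← ha, M2.tsec_smul_left, Scheme.Modules.Hom.app_smul]
    rfl
  refine ⟨⟨W, hW⟩, g, a, hxW, hg, le_antisymm ?_ ?_, ha.symm⟩
  · rintro _ ⟨d, rfl⟩
    obtain ⟨r, rfl⟩ := (hg' W le_rfl).2 d
    simp only [M2.res_self]
    rw [Ideal.mem_span_singleton']
    refine ⟨r * v, ?_⟩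
    refine Eq.trans ?_ (Scheme.Modules.Hom.app_smul φ r g').symm
    show r * v * a = r * (show Γ(X, W) from φ.app W g')
    rw [hφ]
    ring
  · rw [Ideal.span_le, Set.singleton_subset_iff]
    obtain ⟨v', hv'⟩ := hu
    refine ⟨(↑v'⁻¹ : Γ(X, W)) • g', ?_⟩
    refine (Scheme.Modules.Hom.app_smul φ _ g').trans ?_
    show (↑v'⁻¹ : Γ(X, W)) * (show Γ(X, W) from φ.app W g') = a
    rw [hφ, ← hv', mul_left_comm, Units.inv_mul, mul_one]

/-- Local equations give a locally principal ideal. -/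
theorem LocEq.isLocPrincipal {s : Γ(L, (⊤ : X.Opens))} (hs : LocEq L J s) : Curv2.IsLocPrincipal J := fun x _ => by
  obtain ⟨W, g, a, hxW, -, hJ, -⟩ := hs x
  exact ⟨W, hxW, a, hJ⟩

/-- Local equations for the inverse image ideal. -/
theorem LocEq.comap {s : Γ(L, (⊤ : X.Opens))} (hs : LocEq L J s) {X' : Scheme.{u}} (m : X' ⟶ X) :
    LocEq ((Scheme.Modules.pullback m).obj L) (J.comap m) (res' m L (W := ⊤) (W' := ⊤) le_top s) := by
  rw [← J.ker_subschemeι] at hs
  exact hs.pullback (IsPullback.of_hasPullback m J.subschemeι).flip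

/-- On an integral curve the zero ideal of a nonzero section is effective Cartier. -/
theorem LocEq.isEffCartierIdeal [IsIntegral X] [IsNoetherian X] (hd : topologicalKrullDim X ≤ 1)
    (hL : PicF.IsInvertible L) {s : Γ(L, (⊤ : X.Opens))} (hs : LocEq L J s) (hs0 : s ≠ 0) :
    BlowUp.IsEffCartierIdeal J := fun x => by
  obtain ⟨W, g, a, hxW, hg, hJ, hsW⟩ := hs x
  refine ⟨W, hxW, a, ?_, hJ⟩
  haveI : Nonempty W.1 := ⟨⟨x, hxW⟩⟩
  refine mem_nonZeroDivisors_of_ne_zero fun ha => ?_
  haveI := ((CurveCoh17.rkOne_of_invertible hd hL).sec s hs0).1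
  have h1 : (M1.secHom s).app W.1 (1 : Γ(X, W.1)) = (M1.secHom s).app W.1 (0 : Γ(X, W.1)) := by
    rw [Twist.secHom_app, Twist.secHom_app, one_smul, zero_smul, hsW, ha, zero_smul]
  exact one_ne_zero (α := Γ(X, W.1)) (M1.app_injective (M1.secHom s) W.1 h1)

end Groth.Agent.Abel10
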